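import Mathlib.Data.Nat.Choose.Factorization
import Mathlib.Data.Nat.Prime.Basic
import Mathlib.Data.Nat.Factorial.BigOperators
import Mathlib.Tactic.Ring
import Mathlib.Tactic.Linarith
import Mathlib.Tactic.IntervalCases
import Mathlib.Tactic.NormNum.Prime

/-!
# Binomial coefficients without small prime divisors

The arithmetic behind the classification of Hall subgroups of symmetric groups.
-/

set_option autoImplicit false

namespace Cfsg.Agent.PermGp.HallSym

/-- No carries at a prime not dividing the binomial coefficient. -/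
theorem no_carry {q k l : ℕ} (hq : q.Prime) (h : ¬ q ∣ (k + l).choose k) (i : ℕ) :
    k % q ^ i + l % q ^ i < q ^ i := by
  rcases i.eq_zero_or_pos with rfl | hi
  · simp [Nat.mod_one]
  by_contra hge
  push Not at hge
  apply h
  have hpos : ((k + l).choose k).factorization q ≠ 0 := by
    rw [show k + l = l + k from add_comm k l,
      Nat.factorization_choose' hq (b := max (i + 1) (Nat.log q (l + k) + 1)) (by omega)]
    exact Finset.card_ne_zero.mpr ⟨i, Finset.mem_filter.mpr ⟨Finset.mem_Ico.mpr ⟨hi, by omega⟩, hge⟩⟩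
  exact Nat.dvd_of_factorization_pos hpos

theorem mod_of_dvd_add {M l j : ℕ} (h : M ∣ l + j) (hj : j ≤ M) (hj0 : 0 < j) : l % M = M - j := by
  have h1 : (l % M + j) % M = 0 := by rw [Nat.mod_add_mod]; exact Nat.mod_eq_zero_of_dvd h
  have h2 := Nat.mod_lt l (by omega : 0 < M)
  rcases Nat.lt_or_ge (l % M + j) M with h3 | h3
  · rw [Nat.mod_eq_of_lt h3] at h1; omega
  · rw [Nat.mod_eq_sub_mod h3, Nat.mod_eq_of_lt (by omega)] at h1; omega

/-- A divisibility proved prime power by prime power. -/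
theorem dvd_of_prime_pow {m X : ℕ} (h : ∀ q i : ℕ, q.Prime → 0 < i → q ^ i ∣ m → q ^ i ∣ X) : m ∣ X :=
  (Nat.dvd_iff_prime_pow_dvd_dvd X m).mpr fun q i hq hd => by
    rcases i.eq_zero_or_pos with rfl | hi
    · simp
    · exact h q i hq hi hd

theorem prime_dvd_le_half {q m : ℕ} (hq : q.Prime) (hd : q ∣ m) (hm : ¬ m.Prime) (h0 : 0 < m) :
    2 * q ≤ m := by
  obtain ⟨c, rfl⟩ := hd
  have : c ≠ 1 := fun e => hm (by rw [e, mul_one]; exact hq)
  have : c ≠ 0 := fun e => by rw [e, mul_zero] at h0; exact lt_irrefl _ h0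
  calc 2 * q = q * 2 := mul_comm 2 q
    _ ≤ q * c := Nat.mul_le_mul le_rfl (by omega)

theorem le_of_prime_pow_dvd {q i : ℕ} (hq : q.Prime) (hi : 0 < i) : 2 ≤ q ^ i :=
  hq.two_le.trans (Nat.le_self_pow hi.ne' q)

/-- If `l + 1` is composite, `C(k + l, k)` has a prime divisor at most `l / 2 + 1`. -/
theorem succ_prime_of_no_small {k l : ℕ} (hk : 0 < k) (hkl : k ≤ l)
    (h : ∀ q : ℕ, q.Prime → 2 * q ≤ l + 1 → ¬ q ∣ (k + l).choose k) : (l + 1).Prime := by
  by_contra hp
  have : l + 1 ∣ k := dvd_of_prime_pow fun q i hq hi hd => by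
    have hle := prime_dvd_le_half hq ((dvd_pow_self q hi.ne').trans hd) hp (by omega)
    have h1 := no_carry hq (h q hq hle) i
    have h2 := mod_of_dvd_add hd (by have := le_of_prime_pow_dvd hq hi; omega) one_pos
    generalize q ^ i = M at *
    exact Nat.dvd_of_mod_eq_zero (by omega)
  have := Nat.le_of_dvd hk this
  omega

/-- `C(k + l, k)` has all prime factors above `l` only for `k = 1` and for `C(7, 3)`. -/
theorem split_cases {k l : ℕ} (hk : 1 ≤ k) (hkl : k ≤ l) (hn : 5 ≤ k + l)
    (h : ∀ q : ℕ, q.Prime → q ≤ l → ¬ q ∣ (k + l).choose k) :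
    (k = 1 ∧ (k + l).Prime) ∨ (k = 3 ∧ l = 4) := by
  have hl1 : (l + 1).Prime := succ_prime_of_no_small hk hkl fun q hq hle => h q hq (by have := hq.two_le; omega)
  rcases eq_or_lt_of_le hk with rfl | hk2
  · exact Or.inl ⟨rfl, by rwa [add_comm]⟩
  refine Or.inr ?_
  have hnp : (k + l).Prime := by
    by_contra hp
    have : k + l ∣ k := dvd_of_prime_pow fun q i hq hi hd => by
      have hle := prime_dvd_le_half hq ((dvd_pow_self q hi.ne').trans hd) hp (by omega)
      have h1 := no_carry hq (h q hq (by omega)) i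
      have h2 : (k % q ^ i + l % q ^ i) % q ^ i = 0 := by
        rw [← Nat.add_mod]; exact Nat.mod_eq_zero_of_dvd hd
      rw [Nat.mod_eq_of_lt h1] at h2
      generalize q ^ i = M at *
      exact Nat.dvd_of_mod_eq_zero (by omega)
    have := Nat.le_of_dvd (by omega) this
    omega
  have hlodd : l % 2 = 0 := by
    rcases hl1.eq_two_or_odd with e | e <;> omega
  have hkodd : k % 2 = 1 := by
    rcases hnp.eq_two_or_odd with e | e <;> omega
  have hklt : k < l := by omega
  have d1 : k + 1 ∣ l := dvd_of_prime_pow fun q i hq hi hd => by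
    have hle := Nat.le_of_dvd (by omega) ((dvd_pow_self q hi.ne').trans hd)
    have h1 := no_carry hq (h q hq (by omega)) i
    have h2 := mod_of_dvd_add hd (by have := le_of_prime_pow_dvd hq hi; omega) one_pos
    generalize q ^ i = M at *
    exact Nat.dvd_of_mod_eq_zero (by omega)
  have d2 : l + 2 ∣ k * (k - 1) := dvd_of_prime_pow fun q i hq hi hd => by
    have hle := prime_dvd_le_half hq ((dvd_pow_self q hi.ne').trans hd)
      (fun hp => by rcases hp.eq_two_or_odd with e | e <;> omega) (by omega)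
    have h1 := no_carry hq (h q hq (by omega)) i
    have h2 := mod_of_dvd_add hd (le_of_prime_pow_dvd hq hi) two_pos
    rcases (show k % q ^ i = 0 ∨ k % q ^ i = 1 by generalize q ^ i = M at *; omega) with e | e
    · exact dvd_mul_of_dvd_left (Nat.dvd_of_mod_eq_zero e) _
    · refine dvd_mul_of_dvd_right ?_ _
      rw [← e]; exact Nat.dvd_sub_mod k
  obtain ⟨t, ht⟩ := d1
  obtain ⟨s, hs⟩ := d2
  obtain ⟨j, rfl⟩ : ∃ j, k = j + 3 := ⟨k - 3, by omega⟩
  rw [show j + 3 - 1 = j + 2 by omega] at hs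
  rcases t with _ | _ | t
  · omega
  · -- `l = k + 1`
    obtain rfl : l = j + 4 := by omega
    have hd : j + 6 ∣ 12 := by
      have h1 : j + 6 ∣ (j + 3) * (j + 2) + 4 * (j + 6) := dvd_add ⟨s, by rw [hs]⟩ (dvd_mul_left _ 4)
      rw [show (j + 3) * (j + 2) + 4 * (j + 6) = (j + 3) * (j + 6) + 12 by ring] at h1
      exact (Nat.dvd_add_right (dvd_mul_left (j + 6) (j + 3))).mp h1
    have := Nat.le_of_dvd (by norm_num) hd
    have : j ≤ 6 := by omega
    obtain rfl | rfl : j = 0 ∨ j = 6 := by interval_cases j <;> omega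
    · exact ⟨rfl, rfl⟩
    · exact absurd (no_carry Nat.prime_two (h 2 Nat.prime_two (by omega)) 4) (by norm_num)
  · exfalso
    have hs1 : 1 ≤ s := Nat.one_le_iff_ne_zero.mpr fun e => by
      rw [e, mul_zero] at hs
      exact absurd hs (Nat.mul_ne_zero (by omega) (by omega))
    have hst : s * (t + 2) < j + 3 := by
      by_contra hge
      push Not at hge
      have h1 : (j + 4) * (j + 3) ≤ (j + 4) * (s * (t + 2)) := Nat.mul_le_mul_left _ hge
      rw [ht] at hs
      nlinarith
    have hsone : s = 1 := by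
      by_contra hne
      have hz : ((j : ℤ) + 4) ∣ 2 * ((s : ℤ) - 1) := by
        refine ⟨(j : ℤ) + 1 - s * (t + 2), ?_⟩
        have : ((j : ℤ) + 3) * (j + 2) = (((j : ℤ) + 4) * (t + 2) + 2) * s := by
          have := congrArg (fun x : ℕ => (x : ℤ)) hs
          rw [ht] at this
          push_cast at this
          linarith
        linarith
      have hz' : (j + 4) ∣ 2 * (s - 1) := by
        have : ((j + 4 : ℕ) : ℤ) ∣ ((2 * (s - 1) : ℕ) : ℤ) := by
          push_cast [Nat.cast_sub hs1]; exact hz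
        exact_mod_cast this
      have := Nat.le_of_dvd (by omega) hz'
      have : 2 * s ≤ s * (t + 2) := by nlinarith
      omega
    subst hsone
    rw [mul_one] at hs
    have hjt : j + 1 = t + 2 := by
      rcases Nat.lt_trichotomy (j + 1) (t + 2) with h1 | h1 | h1
      · exfalso; nlinarith [Nat.mul_le_mul_left (j + 4) (h1 : j + 2 ≤ t + 2)]
      · exact h1
      · exfalso; nlinarith [Nat.mul_le_mul_left (j + 4) (h1 : t + 3 ≤ j + 1)]
    obtain rfl : j = t + 1 := by omega
    have d3 : t + 1 + 5 ∣ l * (l - 1) := dvd_of_prime_pow fun q i hq hi hd => by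
      have hle := Nat.le_of_dvd (by omega) ((dvd_pow_self q hi.ne').trans hd)
      have hl : t + 1 + 5 ≤ l := by rw [ht]; nlinarith
      have h1 := no_carry hq (h q hq (by omega)) i
      have h2 := mod_of_dvd_add (l := t + 1 + 3) (j := 2) hd (le_of_prime_pow_dvd hq hi) two_pos
      rcases (show l % q ^ i = 0 ∨ l % q ^ i = 1 by generalize q ^ i = M at *; omega) with e | e
      · exact dvd_mul_of_dvd_left (Nat.dvd_of_mod_eq_zero e) _
      · refine dvd_mul_of_dvd_right ?_ _
        rw [← e]; exact Nat.dvd_sub_mod l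
    have hd12 : ((t : ℤ) + 1 + 5) ∣ 12 := by
      have h1 : ((t + 1 + 5 : ℕ) : ℤ) ∣ ((l * (l - 1) : ℕ) : ℤ) := Int.natCast_dvd_natCast.mpr d3
      have hl1' : 1 ≤ l := by omega
      push_cast [Nat.cast_sub hl1'] at h1
      have hl : (l : ℤ) = (t + 1 + 5) * (t + 1) + 4 := by
        have := congrArg (fun x : ℕ => (x : ℤ)) ht
        push_cast at this
        linarith
      have h2 : ((t : ℤ) + 1 + 5) ∣ (l : ℤ) * (l - 1) - 12 := ⟨(t + 1) * ((t + 1 + 5) * (t + 1) + 7), by rw [hl]; ring⟩
      have := dvd_sub h1 h2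
      rwa [show (l : ℤ) * (l - 1) - ((l : ℤ) * (l - 1) - 12) = 12 by ring] at this
    have hd12' : t + 1 + 5 ∣ 12 := by exact_mod_cast hd12
    have := Nat.le_of_dvd (by norm_num) hd12'
    have : t ≤ 6 := by omega
    interval_cases t <;> omega

theorem split_seven_eight {k l : ℕ} (hk : 1 ≤ k) (hkl : k ≤ l) (hl : l = 7 ∨ l = 8)
    (h2 : ¬ 2 ∣ (k + l).choose k) (h3 : ¬ 3 ∣ (k + l).choose k) : False := by
  rcases hl with rfl | rfl <;> interval_cases k <;> revert h2 h3 <;> decide

/-- A block of size `b` with `C(2b - 1, b - 1)` odd has size divisible by four. -/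
theorem four_dvd_of_odd {b : ℕ} (hb : 3 ≤ b) (h : ¬ 2 ∣ ((b - 1) + b).choose (b - 1)) : b % 4 = 0 := by
  by_contra hodd
  have ht := Nat.log2_self_le (n := b) (by omega)
  set t := Nat.log2 b
  have hlt : b < 2 ^ (t + 1) := Nat.lt_log2_self
  have hne : 2 ^ t ≠ b := fun e => by
    rcases t with _ | _ | t
    · omega
    · omega
    · rw [pow_succ, pow_succ] at e; omega
  have := no_carry Nat.prime_two h (t + 1)
  rw [Nat.mod_eq_of_lt (by omega : b - 1 < 2 ^ (t + 1)), Nat.mod_eq_of_lt hlt, pow_succ] at this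
  omega

/-- The imprimitive case: blocks have size four. -/
theorem block_cases {b : ℕ} (hb : 3 ≤ b)
    (h : ∀ q : ℕ, q.Prime → q < b → ¬ q ∣ ((b - 1) + b).choose (b - 1)) : b = 4 := by
  have hev := four_dvd_of_odd hb (h 2 Nat.prime_two (by omega))
  have h' : ∀ q : ℕ, q.Prime → q < b → q ≠ 2 → ¬ q ∣ (b + b).choose b := fun q hq hlt hq2 hd => by
    have e : (b + b).choose b = 2 * ((b - 1) + b).choose (b - 1) := by
      obtain ⟨c, rfl⟩ : ∃ c, b = c + 1 := ⟨b - 1, by omega⟩
      rw [Nat.add_sub_cancel, show c + 1 + (c + 1) = (c + (c + 1)) + 1 by omega, Nat.choose_succ_succ,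
        two_mul]
      congr 1
      exact (Nat.choose_symm_add (a := c) (b := c + 1)).symm
    rw [e] at hd
    rcases hq.dvd_mul.mp hd with h2 | h2
    · exact hq2 ((Nat.prime_dvd_prime_iff_eq hq Nat.prime_two).mp h2)
    · exact h q hq hlt h2
  have hp1 : (b + 1).Prime := by
    by_contra hp
    obtain ⟨q, hq, hd⟩ := Nat.exists_prime_and_dvd (by omega : b + 1 ≠ 1)
    have hle := prime_dvd_le_half hq hd hp (by omega)
    have hq2 : q ≠ 2 := fun e => by subst e; omega
    have h1 := no_carry hq (h' q hq (by omega) hq2) 1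
    rw [pow_one] at h1
    have h2 := mod_of_dvd_add hd (by have := hq.two_le; omega) one_pos
    have := hq.two_le
    omega
  have h3 : b / 2 + 1 ∣ 3 := dvd_of_prime_pow fun q i hq hi hd => by
    have hm2 : (b / 2 + 1) % 2 = 1 := by omega
    have hq2 : q ≠ 2 := fun e => by
      subst e
      have := Nat.mod_eq_zero_of_dvd ((dvd_pow_self 2 hi.ne').trans hd); omega
    have hd2 : q ^ i ∣ b + 2 := hd.trans ⟨2, by omega⟩
    have hle := Nat.le_of_dvd (by omega) ((dvd_pow_self q hi.ne').trans hd)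
    have h1 := no_carry hq (h' q hq (by omega) hq2) i
    have h2 := mod_of_dvd_add hd2 (le_of_prime_pow_dvd hq hi) two_pos
    have h4 : q ^ i = 3 := by
      have := le_of_prime_pow_dvd hq hi
      have : q ^ i ≠ 2 := fun e => hq2 ((Nat.prime_dvd_prime_iff_eq hq Nat.prime_two).mp (e ▸ dvd_pow_self q hi.ne'))
      omega
    rw [h4]
  have := Nat.le_of_dvd (by norm_num) h3
  rcases (Nat.dvd_prime Nat.prime_three).mp h3 with e | e <;> omega

/-- `b!^m m!` divides `(m b)!` with a quotient divisible by every `C(ib - 1, b - 1)`. -/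
theorem exists_partition_count {b : ℕ} (hb : 0 < b) : ∀ m : ℕ, ∃ X : ℕ,
    (m * b).factorial = b.factorial ^ m * m.factorial * X ∧
      ∀ i, 1 ≤ i → i ≤ m → (i * b - 1).choose (b - 1) ∣ X := by
  intro m
  induction m with
  | zero => exact ⟨1, by simp, fun i h1 h2 => by omega⟩
  | succ m ih =>
    obtain ⟨X, hX, hdiv⟩ := ih
    refine ⟨X * ((m + 1) * b - 1).choose (b - 1), ?_, fun i h1 h2 => ?_⟩
    · obtain ⟨c, rfl⟩ : ∃ c, b = c + 1 := ⟨b - 1, by omega⟩
      have e : (m + 1) * (c + 1) = (c + m * (c + 1)) + 1 := by ring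
      have hc := Nat.choose_mul_factorial_mul_factorial (Nat.le_add_right c (m * (c + 1)))
      rw [Nat.add_sub_cancel_left] at hc
      rw [e, Nat.add_sub_cancel, Nat.add_sub_cancel, Nat.factorial_succ, ← hc, ← e, hX, Nat.factorial_succ m,
        pow_succ, Nat.factorial_succ c]
      ring
    · rcases eq_or_lt_of_le h2 with rfl | h2
      · exact dvd_mul_left _ _
      · exact dvd_mul_of_dvd_left (hdiv i h1 (by omega)) _

end Cfsg.Agent.PermGp.HallSym
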