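import Cfsg.Prelude.Def_HallClasses
import Cfsg.Agent.Lib.PermGp.HallSym.Num
import Mathlib.GroupTheory.SpecificGroups.Alternating
import Mathlib.GroupTheory.Perm.Cycle.PossibleTypes
import Mathlib.GroupTheory.GroupAction.Primitive
import Mathlib.GroupTheory.Perm.Cycle.Type
import Mathlib.GroupTheory.Index
import Mathlib.Algebra.Group.Pointwise.Finset.Scalar

/-!
# Hall subgroups of symmetric and alternating groups: generalities
-/

set_option autoImplicit false

namespace Cfsg.Agent.PermGp.HallSym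

open Equiv MulAction
open scoped Pointwise

/-- At most one prime of `π` is at most `n`. -/
def TrivialPi (π : Set ℕ) (n : ℕ) : Prop :=
  ∀ r s : ℕ, r.Prime → s.Prime → r ≤ n → s ≤ n → r ∈ π → s ∈ π → r = s

/-- Every prime at most `n` lies in `π`. -/
def FullPi (π : Set ℕ) (n : ℕ) : Prop := ∀ r : ℕ, r.Prime → r ≤ n → r ∈ π

/-- `n` is prime and `π` has the primes below it. -/
def PointPi (π : Set ℕ) (n : ℕ) : Prop := n.Prime ∧ ∀ r : ℕ, r.Prime → r ≤ n → (r ∈ π ↔ r < n)

/-- `π` is `{2, 3}` in degree seven or eight. -/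
def SmallPi (π : Set ℕ) (n : ℕ) : Prop :=
  (n = 7 ∨ n = 8) ∧ ∀ r : ℕ, r.Prime → r ≤ n → (r ∈ π ↔ r = 2 ∨ r = 3)

theorem five_le {π : Set ℕ} {n : ℕ} (ht : ¬ TrivialPi π n) (hf : ¬ FullPi π n) : 5 ≤ n := by
  by_contra hn
  unfold TrivialPi at ht; unfold FullPi at hf
  push Not at ht hf
  obtain ⟨r, s, hr, hs, hrn, hsn, hrπ, hsπ, hne⟩ := ht
  obtain ⟨t, ht, htn, htπ⟩ := hf
  have key : ∀ q : ℕ, q.Prime → q ≤ n → q = 2 ∨ q = 3 := fun q hq hle => by
    have := hq.two_le
    have h4 : q ≠ 4 := fun e => by subst e; norm_num at hq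
    omega
  rcases key r hr hrn with rfl | rfl <;> rcases key s hs hsn with rfl | rfl <;>
    rcases key t ht htn with rfl | rfl <;> first | exact hne rfl | exact htπ hrπ | exact htπ hsπ

theorem exists_two {π : Set ℕ} {n : ℕ} (ht : ¬ TrivialPi π n) :
    ∃ r s : ℕ, r.Prime ∧ s.Prime ∧ r < s ∧ s ≤ n ∧ r ∈ π ∧ s ∈ π := by
  unfold TrivialPi at ht
  push Not at ht
  obtain ⟨r, s, hr, hs, hrn, hsn, hrπ, hsπ, hne⟩ := ht
  rcases Nat.lt_or_gt_of_ne hne with h | h
  · exact ⟨r, s, hr, hs, h, hsn, hrπ, hsπ⟩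
  · exact ⟨s, r, hs, hr, h, hrn, hsπ, hrπ⟩

variable {α : Type*} [Fintype α] [DecidableEq α]

/-- The symmetric or the alternating group. -/
def Ambient (G : Subgroup (Perm α)) : Prop := G = ⊤ ∨ G = alternatingGroup α

theorem Ambient.normal {G : Subgroup (Perm α)} (hG : Ambient G) : G.Normal := by
  rcases hG with rfl | rfl
  · infer_instance
  · exact Perm.sign.normal_ker

theorem Ambient.index_dvd {G : Subgroup (Perm α)} (hG : Ambient G) : G.index ∣ 2 := by
  rcases hG with rfl | rfl
  · rw [Subgroup.index_top]; exact one_dvd 2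
  · show (Perm.sign (α := α)).ker.index ∣ 2
    rw [Subgroup.index_ker]
    have := Subgroup.card_subgroup_dvd_card (Perm.sign (α := α)).range
    rwa [Nat.card_eq_fintype_card (α := ℤˣ), Fintype.card_units_int] at this

/-- The three exceptional kinds of Hall subgroups. -/
inductive IsModel (π : Set ℕ) : Subgroup (Perm α) → Prop
  | point (x : α) (h : PointPi π (Fintype.card α)) : IsModel π (stabilizer (Perm α) x)
  | seven (Δ : Finset α) (h7 : Fintype.card α = 7) (h : SmallPi π 7) (hΔ : Δ.card = 3) :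
      IsModel π (stabilizer (Perm α) Δ)
  | eight (Δ : Finset α) (h8 : Fintype.card α = 8) (h : SmallPi π 8) (hΔ : Δ.card = 4) :
      IsModel π (stabilizer (Perm α) ({Δ, Δᶜ} : Finset (Finset α)))

theorem prime_dvd_card_perm {q : ℕ} (hq : q.Prime) : q ∣ Nat.card (Perm α) ↔ q ≤ Fintype.card α := by
  rw [Nat.card_eq_fintype_card, Fintype.card_perm, hq.dvd_factorial]

variable {π : Set ℕ} {H G : Subgroup (Perm α)}

theorem mem_of_dvd_card (hH : Cfsg.IsPiHallOf π H G) {q : ℕ} (hq : q.Prime) (h : q ∣ Nat.card H) : q ∈ π :=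
  hH.2.1 q hq h

/-- Outside the prime two the index in the symmetric group avoids `π`. -/
theorem not_dvd_index (hG : Ambient G) (hH : Cfsg.IsPiHallOf π H G) {q : ℕ} (hq : q.Prime) (hqπ : q ∈ π)
    (h2 : q ≠ 2 ∨ G = ⊤) : ¬ q ∣ H.index := by
  rw [← Subgroup.relIndex_mul_index hH.1]
  intro h
  rcases hq.dvd_mul.mp h with h' | h'
  · exact hH.2.2 q hq hqπ h'
  · rcases h2 with h2 | rfl
    · exact h2 ((Nat.prime_dvd_prime_iff_eq hq Nat.prime_two).mp (h'.trans hG.index_dvd))
    · rw [Subgroup.index_top, Nat.dvd_one] at h'; exact hq.ne_one h'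

/-- A prime cycle lies in every subgroup of prime-to-`r` index, up to conjugation. -/
theorem exists_cycle {r : ℕ} (hr : r.Prime) (hrn : r ≤ Fintype.card α) (hidx : ¬ r ∣ H.index) :
    ∃ g ∈ H, g.IsCycle ∧ g.support.card = r := by
  classical
  haveI := Fact.mk hr
  obtain ⟨g, hg⟩ := (Equiv.Perm.exists_with_cycleType_iff α (m := {r})).mpr
    ⟨by simpa using hrn, fun a ha => by rw [Multiset.mem_singleton] at ha; exact ha ▸ hr.two_le⟩
  have hgord : orderOf g = r := by rw [← Perm.lcm_cycleType, hg, Multiset.lcm_singleton]; simp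
  obtain ⟨Q, hQ⟩ := (IsPGroup.of_card (p := r) (n := 1) (G := Subgroup.zpowers g)
    (by rw [Nat.card_zpowers, hgord, pow_one])).exists_le_sylow
  obtain ⟨P₀⟩ : Nonempty (Sylow r H) := inferInstance
  let P : Sylow r (Perm α) := Sylow.ofCard ((P₀ : Subgroup H).map H.subtype) (by
    rw [Subgroup.card_map_of_injective H.subtype_injective, P₀.card_eq_multiplicity,
      ← H.card_mul_index, Nat.factorization_mul Nat.card_pos.ne' Subgroup.FiniteIndex.index_ne_zero,
      Finsupp.add_apply, Nat.factorization_eq_zero_of_not_dvd hidx, add_zero])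
  obtain ⟨σ, hσ⟩ := MulAction.exists_smul_eq (Perm α) Q P
  refine ⟨σ * g * σ⁻¹, ?_, ?_, ?_⟩
  · have hm : σ * g * σ⁻¹ ∈ (P : Subgroup (Perm α)) := by
      rw [← hσ, Sylow.coe_subgroup_smul, Subgroup.mem_pointwise_smul_iff_inv_smul_mem, ← map_inv,
        MulAut.smul_def, MulAut.conj_apply]
      simpa [mul_assoc] using hQ (Subgroup.mem_zpowers g)
    obtain ⟨y, -, hy⟩ := hm
    exact hy ▸ y.2
  · rw [← Perm.card_cycleType_eq_one, Perm.cycleType_conj, hg]; rfl
  · rw [← Perm.sum_cycleType, Perm.cycleType_conj, hg]; simp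

/-- A transitive group has order divisible by the degree. -/
theorem card_dvd_of_transitive [IsPretransitive H α] (x : α) : Fintype.card α ∣ Nat.card H := by
  rw [← Nat.card_eq_fintype_card, ← MulAction.index_stabilizer_of_transitive H x]
  exact Subgroup.index_dvd_card _

/-- An overgroup meeting both cosets of the ambient group has index prime to `π`. -/
theorem not_dvd_index_over (hG : Ambient G) (hH : Cfsg.IsPiHallOf π H G) {W : Subgroup (Perm α)}
    (hHW : H ≤ W) (hsup : G ⊔ W = ⊤) {q : ℕ} (hq : q.Prime) (hqπ : q ∈ π) : ¬ q ∣ W.index := by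
  haveI := hG.normal
  have h1 : G.relIndex W = G.index := by
    rw [← Subgroup.relIndex_top_right, ← hsup, Subgroup.relIndex_sup_left]
  have h2 : W.index = W.relIndex G := by
    have e1 := Subgroup.relIndex_mul_relIndex ⊥ (W ⊓ G) W bot_le inf_le_left
    rw [Subgroup.relIndex_bot_left, Subgroup.relIndex_bot_left, inf_comm, Subgroup.inf_relIndex_right, h1] at e1
    have e2 := Subgroup.relIndex_mul_relIndex ⊥ (W ⊓ G) G bot_le inf_le_right
    rw [Subgroup.relIndex_bot_left, Subgroup.relIndex_bot_left, Subgroup.inf_relIndex_right] at e2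
    have e3 := W.card_mul_index
    have e4 := G.card_mul_index
    rw [← e1, inf_comm G W] at e3
    rw [← e2, ← e3] at e4
    have hpos : 0 < Nat.card ↥(W ⊓ G) * G.index := Nat.mul_pos Nat.card_pos (Nat.pos_of_ne_zero Subgroup.FiniteIndex.index_ne_zero)
    exact (Nat.eq_of_mul_eq_mul_left hpos (by linarith)).symm
  rw [h2]
  exact fun h => hH.2.2 q hq hqπ (h.trans (Subgroup.relIndex_dvd_of_le_left G hHW))

theorem relIndex_map_dvd {M N : Type*} [Group M] [Group N] (f : M →* N) {A B : Subgroup M} :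
    (A.map f).relIndex (B.map f) ∣ A.relIndex B := by
  have hle : (A.subgroupOf B).map (f.subgroupMap B) ≤ (A.map f).subgroupOf (B.map f) := by
    rintro _ ⟨b, hb, rfl⟩
    exact ⟨b, hb, rfl⟩
  exact (Subgroup.index_dvd_of_le hle).trans (Subgroup.index_map_dvd _ (f.subgroupMap_surjective B))

/-- Hall subgroups project to Hall subgroups. -/
theorem image_hall (hH : Cfsg.IsPiHallOf π H G) {W' : Subgroup (Perm α)} {N : Type*} [Group N] (φ : W' →* N)
    (hnorm : ∀ h ∈ H, ∀ w ∈ W' ⊓ G, h * w * h⁻¹ ∈ W' ⊓ G) :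
    Cfsg.IsPiHallOf π ((H.subgroupOf W').map φ) ((G.subgroupOf W').map φ) := by
  refine ⟨Subgroup.map_mono fun x hx => hH.1 hx, fun q hq hd => hH.2.1 q hq ?_, fun q hq hqπ hd => ?_⟩
  · refine (hd.trans (Subgroup.card_map_dvd _ φ)).trans ?_
    rw [← Subgroup.card_map_of_injective (f := W'.subtype) W'.subtype_injective, Subgroup.subgroupOf_map_subtype]
    exact Subgroup.card_dvd_of_le inf_le_left
  · refine hH.2.2 q hq hqπ ((hd.trans (relIndex_map_dvd φ)).trans ?_)
    have e : (H.subgroupOf W').relIndex (G.subgroupOf W') = H.relIndex (W' ⊓ G) := by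
      rw [← Subgroup.relIndex_subgroupOf (L := W') (inf_le_left : W' ⊓ G ≤ W'), Subgroup.inf_subgroupOf_left]
    rw [e]
    -- the part inside a normalised subgroup
    set L := W' ⊓ G
    set M := Subgroup.normalizer (L : Set (Perm α)) ⊓ G with hM
    have hHM : H ≤ M := le_inf (fun h hh => Subgroup.mem_normalizer_iff.mpr fun w =>
      ⟨hnorm h hh w, fun hw => by
        have := hnorm h⁻¹ (H.inv_mem hh) _ hw
        simpa [mul_assoc] using this⟩) hH.1
    have hLM : L ≤ M := le_inf Subgroup.le_normalizer inf_le_right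
    haveI : (L.subgroupOf M).Normal := ⟨fun w hw m => (Subgroup.mem_normalizer_iff.mp m.2.1 w).mp hw⟩
    set A := H.subgroupOf M
    set B := L.subgroupOf M
    have e1 : A.relIndex B = H.relIndex L := Subgroup.relIndex_subgroupOf hLM
    have e2 : A.relIndex B ∣ A.index := by
      have h3 := Subgroup.relIndex_mul_relIndex ⊥ (A ⊓ B) A bot_le inf_le_left
      have h4 := Subgroup.relIndex_mul_relIndex ⊥ (A ⊓ B) B bot_le inf_le_right
      have h5 := Subgroup.relIndex_mul_relIndex ⊥ B (A ⊔ B) bot_le le_sup_right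
      have h6 := Subgroup.relIndex_mul_relIndex ⊥ A (A ⊔ B) bot_le le_sup_left
      rw [Subgroup.relIndex_bot_left, Subgroup.relIndex_bot_left, inf_comm, Subgroup.inf_relIndex_right] at h3
      rw [Subgroup.relIndex_bot_left, Subgroup.relIndex_bot_left, Subgroup.inf_relIndex_right] at h4
      rw [Subgroup.relIndex_bot_left, Subgroup.relIndex_bot_left, Subgroup.relIndex_sup_right] at h5
      rw [Subgroup.relIndex_bot_left, Subgroup.relIndex_bot_left, ← h5, ← h4, ← h3, inf_comm B A] at h6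
      have hpos : 0 < Nat.card ↥(A ⊓ B) * B.relIndex A := by
        refine Nat.mul_pos Nat.card_pos (Nat.pos_of_ne_zero ?_)
        exact Subgroup.FiniteIndex.index_ne_zero
      have : A.relIndex (A ⊔ B) = A.relIndex B := Nat.eq_of_mul_eq_mul_left hpos (by linarith)
      exact this ▸ Subgroup.relIndex_dvd_index_of_le le_sup_left
    rw [← e1]
    refine e2.trans ?_
    show H.relIndex M ∣ H.relIndex G
    exact ⟨_, (Subgroup.relIndex_mul_relIndex H M G hHM inf_le_right).symm⟩

end Cfsg.Agent.PermGp.HallSym
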