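import Cfsg.Agent.Lib.PermGp.HallSym.Sym

/-!
# Alternating groups and the Sylow analogue for a set of primes
-/

set_option autoImplicit false

namespace Cfsg.Agent.PermGp.HallSym

open Equiv MulAction
open scoped Pointwise

variable {α : Type*} [Fintype α] [DecidableEq α] {π : Set ℕ}

theorem IsModel.map_conj {W : Subgroup (Perm α)} (h : IsModel π W) (σ : Perm α) :
    IsModel π (W.map (MulAut.conj σ).toMonoidHom) := by
  cases h with
  | point x h => rw [← stabilizer_smul_eq_stabilizer_map_conj]; exact .point _ h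
  | seven Δ h7 h hΔ =>
    rw [← stabilizer_smul_eq_stabilizer_map_conj]
    exact .seven _ h7 h (by rw [Finset.card_smul_finset, hΔ])
  | eight Δ h8 h hΔ =>
    rw [← stabilizer_smul_eq_stabilizer_map_conj, smul_pair]
    exact .eight _ h8 h (by rw [Finset.card_smul_finset, hΔ])

/-- Under the Sylow analogue every even `π`-group lies in a model. -/
theorem le_model_of_dpi (hd : Cfsg.IsDPiGroup π (alternatingGroup α)) (ht : ¬ TrivialPi π (Fintype.card α))
    (hf : ¬ FullPi π (Fintype.card α)) {U : Subgroup (Perm α)} (hU : U ≤ alternatingGroup α)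
    (hπ : Cfsg.IsPiSubgroup π U) : ∃ W, IsModel π W ∧ U ≤ W := by
  obtain ⟨H, hH, hsub⟩ := exists_hall_of_dpi hd
  obtain ⟨W, hW, he⟩ := hall_alt_eq hH ht hf
  have hc : Nat.card (U.subgroupOf (alternatingGroup α)) = Nat.card U :=
    Nat.card_congr (Subgroup.subgroupOfEquivOfLe hU).toEquiv
  obtain ⟨g, hg⟩ := hsub (U.subgroupOf (alternatingGroup α)) fun q hq hqd => hπ q hq (hc ▸ hqd)
  refine ⟨_, hW.map_conj g.1, fun u hu => ?_⟩
  obtain ⟨v, hv, hvu⟩ := hg (show (⟨u, hU hu⟩ : alternatingGroup α) ∈ U.subgroupOf (alternatingGroup α) from hu)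
  have hvW : v.1 ∈ W ⊓ alternatingGroup α := he ▸ Subgroup.mem_map_of_mem _ hv
  exact ⟨v.1, hvW.1, congrArg Subtype.val hvu⟩

/-- Prime degree: an even group without fixed points. -/
theorem not_dpi_point (hd : Cfsg.IsDPiGroup π (alternatingGroup α)) (ht : ¬ TrivialPi π (Fintype.card α))
    (hf : ¬ FullPi π (Fintype.card α)) (h : PointPi π (Fintype.card α)) : False := by
  classical
  have h5 := five_le ht hf
  obtain ⟨hp, hπ⟩ := h
  set p := Fintype.card α with hpdef
  obtain ⟨a, b, hab⟩ := Fintype.one_lt_card_iff.mp (show 1 < Fintype.card α by omega)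
  set T : Finset α := {a, b} with hT
  have hTc : T.card = 2 := Finset.card_pair hab
  set U := stabilizer (Perm α) T ⊓ alternatingGroup α with hUdef
  have hUπ : Cfsg.IsPiSubgroup π U := fun q hq hqd => by
    have hle := (prime_dvd_card_perm hq).mp (hqd.trans (Subgroup.card_subgroup_dvd_card U))
    have h1 := hqd.trans (Subgroup.card_dvd_of_le (inf_le_left : U ≤ stabilizer (Perm α) T))
    have h2 := (stabilizer (Perm α) T).card_mul_index
    rw [index_stab_finset, hTc, Nat.card_perm, Nat.card_eq_fintype_card (α := α), ← hpdef,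
      ← Nat.choose_mul_factorial_mul_factorial (show 2 ≤ p by omega), mul_comm _ (p.choose 2), mul_assoc] at h2
    rw [Nat.eq_of_mul_eq_mul_left (Nat.choose_pos (by omega)) h2] at h1
    refine (hπ q hq hle).mpr ?_
    rcases hq.dvd_mul.mp h1 with h3 | h3 <;> have := hq.dvd_factorial.mp h3 <;> omega
  obtain ⟨W, hW, hUW⟩ := le_model_of_dpi hd ht hf (U := U) inf_le_right hUπ
  cases hW with
  | point x hx =>
    obtain ⟨c, d, hcd, hx', hcT, hdT⟩ : ∃ c d, c ≠ d ∧ (x ∈ T ∨ x = c) ∧ c ∉ T ∧ d ∉ T := by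
      by_cases hxT : x ∈ T
      · obtain ⟨c, hc, d, hd', hne⟩ := Finset.one_lt_card.mp (show 1 < Tᶜ.card by rw [Finset.card_compl]; omega)
        exact ⟨c, d, hne, Or.inl hxT, Finset.mem_compl.mp hc, Finset.mem_compl.mp hd'⟩
      · obtain ⟨d, hd'⟩ := Finset.card_pos.mp (show 0 < (Tᶜ.erase x).card by
          rw [Finset.card_erase_of_mem (Finset.mem_compl.mpr hxT), Finset.card_compl]; omega)
        rw [Finset.mem_erase, Finset.mem_compl] at hd'
        exact ⟨x, d, Ne.symm hd'.1, Or.inr rfl, hxT, hd'.2⟩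
    rw [hT, Finset.mem_insert, Finset.mem_singleton, not_or] at hcT hdT
    have hmem : Equiv.swap a b * Equiv.swap c d ∈ U := by
      refine ⟨mem_stab_iff.mpr fun z => ?_, Perm.mem_alternatingGroup.mpr ?_⟩
      · rw [Perm.mul_apply, hT, Finset.mem_insert, Finset.mem_singleton, Finset.mem_insert, Finset.mem_singleton]
        simp only [Equiv.swap_apply_def]
        split_ifs <;> simp_all
      · rw [map_mul, Perm.sign_swap hab, Perm.sign_swap hcd]; rfl
    have hfix : (Equiv.swap a b * Equiv.swap c d) x = x := hUW hmem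
    rw [Perm.mul_apply] at hfix
    rcases hx' with hx' | rfl
    · rw [hT, Finset.mem_insert, Finset.mem_singleton] at hx'
      rcases hx' with rfl | rfl
      · rw [Equiv.swap_apply_of_ne_of_ne (Ne.symm hcT.1) (Ne.symm hdT.1), Equiv.swap_apply_left] at hfix
        exact hab hfix.symm
      · rw [Equiv.swap_apply_of_ne_of_ne (Ne.symm hcT.2) (Ne.symm hdT.2), Equiv.swap_apply_right] at hfix
        exact hab hfix
    · rw [Equiv.swap_apply_left, Equiv.swap_apply_of_ne_of_ne hdT.1 hdT.2] at hfix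
      exact hcd hfix.symm
  | seven Δ h7 h hΔ =>
    have := (h.2 5 (by norm_num) (by omega)).mp ((hπ 5 (by norm_num) (by omega)).mpr (by omega))
    omega
  | eight Δ h8 h hΔ =>
    rw [h8] at hpdef
    rw [hpdef] at hp
    norm_num at hp

theorem prime_two_three {q : ℕ} (hq : q.Prime) {a b : ℕ} (hd : q ∣ 2 ^ a * 3 ^ b) : q = 2 ∨ q = 3 := by
  rcases hq.dvd_mul.mp hd with h | h
  · exact Or.inl ((Nat.prime_dvd_prime_iff_eq hq Nat.prime_two).mp (hq.dvd_of_dvd_pow h))
  · exact Or.inr ((Nat.prime_dvd_prime_iff_eq hq Nat.prime_three).mp (hq.dvd_of_dvd_pow h))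

/-- Degree seven: an even `{2, 3}`-group with orbits of sizes six and one. -/
theorem not_dpi_seven (hd : Cfsg.IsDPiGroup π (alternatingGroup (Fin 7))) (ht : ¬ TrivialPi π 7)
    (hf : ¬ FullPi π 7) (h : SmallPi π 7) : False := by
  let P : Finset (Finset (Fin 7)) := {{0, 1}, {2, 3}, {4, 5}}
  set U := stabilizer (Perm (Fin 7)) P ⊓ alternatingGroup (Fin 7)
  have hUπ : Cfsg.IsPiSubgroup π U := fun q hq hqd => by
    have h1 := (hqd.trans (Subgroup.card_dvd_of_le (inf_le_left : U ≤ stabilizer (Perm (Fin 7)) P))).trans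
      (card_stab_partition (b := 2) (P := P) (by decide +kernel) (by decide +kernel))
    rw [show Nat.factorial 2 ^ P.card * P.card.factorial = 2 ^ 4 * 3 ^ 1 by decide +kernel] at h1
    refine (h.2 q hq ?_).mpr (prime_two_three hq h1)
    rcases prime_two_three hq h1 with rfl | rfl <;> norm_num
  obtain ⟨W, hW, hUW⟩ := le_model_of_dpi hd (by simpa using ht) (by simpa using hf) (U := U) inf_le_right hUπ
  let a : Perm (Fin 7) := Equiv.swap 0 2 * Equiv.swap 2 4 * (Equiv.swap 1 3 * Equiv.swap 3 5)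
  let b : Perm (Fin 7) := Equiv.swap 0 1 * Equiv.swap 2 3
  have ha : a ∈ U := ⟨mem_stabilizer_iff.mpr (by decide +kernel), Perm.mem_alternatingGroup.mpr (by
    simp only [a, map_mul, Perm.sign_swap (show (0 : Fin 7) ≠ 2 by decide), Perm.sign_swap (show (2 : Fin 7) ≠ 4 by decide),
      Perm.sign_swap (show (1 : Fin 7) ≠ 3 by decide), Perm.sign_swap (show (3 : Fin 7) ≠ 5 by decide)]; rfl)⟩
  have hb : b ∈ U := ⟨mem_stabilizer_iff.mpr (by decide +kernel), Perm.mem_alternatingGroup.mpr (by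
    simp only [b, map_mul, Perm.sign_swap (show (0 : Fin 7) ≠ 1 by decide), Perm.sign_swap (show (2 : Fin 7) ≠ 3 by decide)]; rfl)⟩
  have key : ∀ s ∈ (Finset.univ : Finset (Fin 7)).powersetCard 3, a • s = s → b • s = s → False := by
    decide +kernel
  cases hW with
  | point x hx =>
    have := (h.2 5 (by norm_num) (by norm_num)).mp ((hx.2 5 (by norm_num) (by simp)).mpr (by simp))
    omega
  | seven Δ _ _ hΔ =>
    exact key Δ (Finset.mem_powersetCard.mpr ⟨Finset.subset_univ _, hΔ⟩) (hUW ha) (hUW hb)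
  | eight Δ h8 _ _ => simp at h8

/-- Degree eight: an even `{2, 3}`-group with orbits of sizes six and two. -/
theorem not_dpi_eight (hd : Cfsg.IsDPiGroup π (alternatingGroup (Fin 8))) (ht : ¬ TrivialPi π 8)
    (hf : ¬ FullPi π 8) (h : SmallPi π 8) : False := by
  let P : Finset (Finset (Fin 8)) := {{0, 1}, {2, 3}, {4, 5}, {6, 7}}
  set U := stabilizer (Perm (Fin 8)) P ⊓ stabilizer (Perm (Fin 8)) ({6, 7} : Finset (Fin 8)) ⊓ alternatingGroup (Fin 8)
  have hUπ : Cfsg.IsPiSubgroup π U := fun q hq hqd => by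
    have h1 := (hqd.trans (Subgroup.card_dvd_of_le (inf_le_left.trans inf_le_left : U ≤ stabilizer (Perm (Fin 8)) P))).trans
      (card_stab_partition (b := 2) (P := P) (by decide +kernel) (by decide +kernel))
    rw [show Nat.factorial 2 ^ P.card * P.card.factorial = 2 ^ 7 * 3 ^ 1 by decide +kernel] at h1
    refine (h.2 q hq ?_).mpr (prime_two_three hq h1)
    rcases prime_two_three hq h1 with rfl | rfl <;> norm_num
  obtain ⟨W, hW, hUW⟩ := le_model_of_dpi hd (by simpa using ht) (by simpa using hf) (U := U) inf_le_right hUπ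
  let a : Perm (Fin 8) := Equiv.swap 0 2 * Equiv.swap 2 4 * (Equiv.swap 1 3 * Equiv.swap 3 5)
  let b : Perm (Fin 8) := Equiv.swap 0 1 * Equiv.swap 2 3
  have ha : a ∈ U := ⟨⟨mem_stabilizer_iff.mpr (by decide +kernel), mem_stabilizer_iff.mpr (by decide +kernel)⟩, Perm.mem_alternatingGroup.mpr (by
    simp only [a, map_mul, Perm.sign_swap (show (0 : Fin 8) ≠ 2 by decide), Perm.sign_swap (show (2 : Fin 8) ≠ 4 by decide),
      Perm.sign_swap (show (1 : Fin 8) ≠ 3 by decide), Perm.sign_swap (show (3 : Fin 8) ≠ 5 by decide)]; rfl)⟩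
  have hb : b ∈ U := ⟨⟨mem_stabilizer_iff.mpr (by decide +kernel), mem_stabilizer_iff.mpr (by decide +kernel)⟩, Perm.mem_alternatingGroup.mpr (by
    simp only [b, map_mul, Perm.sign_swap (show (0 : Fin 8) ≠ 1 by decide), Perm.sign_swap (show (2 : Fin 8) ≠ 3 by decide)]; rfl)⟩
  have key : ∀ s ∈ (Finset.univ : Finset (Fin 8)).powersetCard 4, (a • s = s ∨ a • s = sᶜ) → (b • s = s ∨ b • s = sᶜ) → False := by
    decide +kernel
  cases hW with
  | point x hx => exact absurd hx.1 (by simp; norm_num)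
  | seven Δ h7 _ _ => simp at h7
  | eight Δ _ _ hΔ =>
    have hmove : ∀ {σ : Perm (Fin 8)}, σ ∈ U → σ • Δ = Δ ∨ σ • Δ = Δᶜ := fun {σ} hσ => by
      have h1 : σ • Δ ∈ σ • ({Δ, Δᶜ} : Finset (Finset (Fin 8))) := Finset.smul_mem_smul_finset (Finset.mem_insert_self _ _)
      rwa [mem_stabilizer_iff.mp (hUW hσ), Finset.mem_insert, Finset.mem_singleton] at h1
    exact key Δ (Finset.mem_powersetCard.mpr ⟨Finset.subset_univ _, hΔ⟩) (hmove ha) (hmove hb)

theorem prime_dvd_card_alt_iff {n q : ℕ} (hn : 4 ≤ n) (hq : q.Prime) :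
    q ∣ Nat.card (alternatingGroup (Fin n)) ↔ q ≤ n := by
  refine ⟨fun h => by simpa using dvd_card_alt hq h, fun h => ?_⟩
  haveI : Nontrivial (Fin n) := Fin.nontrivial_iff_two_le.mpr (by omega)
  have hc := two_mul_nat_card_alternatingGroup (α := Fin n)
  rw [Nat.card_perm, Nat.card_eq_fintype_card (α := Fin n), Fintype.card_fin] at hc
  rcases eq_or_ne q 2 with rfl | hq2
  · have h4 : 4 ∣ n.factorial := (show 4 ∣ Nat.factorial 4 from ⟨6, rfl⟩).trans (Nat.factorial_dvd_factorial hn)
    omega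
  · have hdv : q ∣ 2 * Nat.card (alternatingGroup (Fin n)) := hc ▸ (hq.dvd_factorial).mpr h
    exact ((Nat.coprime_primes hq Nat.prime_two).mpr hq2).dvd_of_dvd_mul_left hdv

/-- The alternating groups with the full Sylow analogue. -/
theorem dpi_alt_iff {n : ℕ} : Cfsg.IsDPiGroup π (alternatingGroup (Fin n)) ↔ TrivialPi π n ∨ FullPi π n := by
  constructor
  · intro hd
    by_contra hnot
    push Not at hnot
    obtain ⟨ht, hf⟩ := hnot
    obtain ⟨H, hH, -⟩ := exists_hall_of_dpi hd
    obtain ⟨W, hW, -⟩ := hall_alt_eq hH (by simpa using ht) (by simpa using hf)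
    rcases model_shape hW with h | ⟨e, h⟩
    · exact not_dpi_point hd (by simpa using ht) (by simpa using hf) h
    · simp only [Fintype.card_fin] at e h
      rcases e with rfl | rfl
      · exact not_dpi_seven hd ht hf ⟨Or.inl rfl, h⟩
      · exact not_dpi_eight hd ht hf ⟨Or.inr rfl, h⟩
  · rintro (h | h)
    · exact (few_primes fun r s hr hs hrπ hsπ hrd hsd =>
        h r s hr hs (by simpa using dvd_card_alt hr hrd) (by simpa using dvd_card_alt hs hsd) hrπ hsπ).1
    · exact (all_primes fun r hr hrd => h r hr (by simpa using dvd_card_alt hr hrd)).1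

end Cfsg.Agent.PermGp.HallSym
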