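import Cfsg.Prelude.Def_HallClasses
import Mathlib.GroupTheory.Sylow
import Mathlib.GroupTheory.Index
import Mathlib.Data.Finite.Prod
import Mathlib.Order.Preorder.Finite

/-!
# Elementary facts about Hall subgroups
-/

set_option autoImplicit false

namespace Cfsg.Agent.PermGp.HallSym

open scoped Pointwise

universe u
variable {G : Type u} [Group G] [Finite G] {π : Set ℕ}

theorem hallOf_top_iff {H : Subgroup G} : Cfsg.IsPiHallOf π H ⊤ ↔ Cfsg.IsPiHall π H := by
  simp only [Cfsg.IsPiHallOf, Cfsg.IsPiHall, Subgroup.relIndex_top_right, le_top, true_and]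

omit [Finite G] in
theorem hallOf_map_iff {A : Subgroup G} {M : Subgroup A} :
    Cfsg.IsPiHallOf π (M.map A.subtype) A ↔ Cfsg.IsPiHall π M := by
  have h2 : (M.map A.subtype).relIndex A = M.index := by
    show ((M.map A.subtype).subgroupOf A).index = _
    rw [Subgroup.subgroupOf, Subgroup.comap_map_eq_self_of_injective A.subtype_injective]
  simp only [Cfsg.IsPiHallOf, Cfsg.IsPiHall, h2, Subgroup.card_map_of_injective A.subtype_injective,
    Subgroup.map_subtype_le, true_and]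

/-- A Hall subgroup is the trace of any `π`-subgroup containing it. -/
theorem hall_eq_inf {H A W : Subgroup G} (hH : Cfsg.IsPiHallOf π H A) (hHW : H ≤ W)
    (hW : ∀ p : ℕ, p.Prime → p ∣ Nat.card W → p ∈ π) : H = W ⊓ A := by
  have hle : H ≤ W ⊓ A := le_inf hHW hH.1
  refine le_antisymm hle (Subgroup.relIndex_eq_one.mp ?_)
  by_contra hne
  obtain ⟨p, hp, hpd⟩ := Nat.exists_prime_and_dvd hne
  refine hH.2.2 p hp (hW p hp ?_) (hpd.trans ⟨_, (Subgroup.relIndex_mul_relIndex H _ A hle inf_le_right).symm⟩)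
  exact (hpd.trans (Subgroup.index_dvd_card _)).trans (Subgroup.card_dvd_of_le inf_le_left)

/-- The trace of a Hall subgroup on a normal subgroup. -/
theorem hall_inter_normal {M A : Subgroup G} [A.Normal] (hM : Cfsg.IsPiHall π M) :
    Cfsg.IsPiHallOf π (M ⊓ A) A := by
  refine ⟨inf_le_right, fun p hp hd => hM.1 p hp (hd.trans (Subgroup.card_dvd_of_le inf_le_left)),
    fun p hp hpπ hd => hM.2 p hp hpπ (hd.trans ?_)⟩
  rw [Subgroup.inf_relIndex_right]
  have h3 := Subgroup.relIndex_mul_relIndex ⊥ (M ⊓ A) M bot_le inf_le_left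
  have h4 := Subgroup.relIndex_mul_relIndex ⊥ (M ⊓ A) A bot_le inf_le_right
  have h5 := Subgroup.relIndex_mul_relIndex ⊥ A (M ⊔ A) bot_le le_sup_right
  have h6 := Subgroup.relIndex_mul_relIndex ⊥ M (M ⊔ A) bot_le le_sup_left
  rw [Subgroup.relIndex_bot_left, Subgroup.relIndex_bot_left, inf_comm, Subgroup.inf_relIndex_right] at h3
  rw [Subgroup.relIndex_bot_left, Subgroup.relIndex_bot_left, Subgroup.inf_relIndex_right] at h4
  rw [Subgroup.relIndex_bot_left, Subgroup.relIndex_bot_left, Subgroup.relIndex_sup_right] at h5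
  rw [Subgroup.relIndex_bot_left, Subgroup.relIndex_bot_left, ← h5, ← h4, ← h3, inf_comm A M] at h6
  have hpos : 0 < Nat.card ↥(M ⊓ A) * A.relIndex M :=
    Nat.mul_pos Nat.card_pos (Nat.pos_of_ne_zero Subgroup.FiniteIndex.index_ne_zero)
  have : M.relIndex (M ⊔ A) = M.relIndex A := Nat.eq_of_mul_eq_mul_left hpos (by linarith)
  exact this ▸ Subgroup.relIndex_dvd_index_of_le le_sup_left

theorem exists_maximal_pi {K : Subgroup G} (hK : Cfsg.IsPiSubgroup π K) :
    ∃ L, K ≤ L ∧ Maximal (Cfsg.IsPiSubgroup π) L :=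
  Finite.exists_le_maximal hK

/-- In a group with the Sylow analogue some Hall subgroup contains every `π`-subgroup up to conjugation. -/
theorem exists_hall_of_dpi (h : Cfsg.IsDPiGroup π G) :
    ∃ H : Subgroup G, Cfsg.IsPiHall π H ∧
      ∀ U, Cfsg.IsPiSubgroup π U → ∃ g : G, U ≤ H.map (MulAut.conj g).toMonoidHom := by
  obtain ⟨H, -, hH⟩ := exists_maximal_pi (G := G) (π := π) (K := ⊥) fun p hp hd => by
    rw [Subgroup.card_bot, Nat.dvd_one] at hd
    exact absurd hd hp.ne_one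
  have hsub : ∀ U, Cfsg.IsPiSubgroup π U → ∃ g : G, U ≤ H.map (MulAut.conj g).toMonoidHom := fun U hU => by
    obtain ⟨L, hUL, hL⟩ := exists_maximal_pi hU
    obtain ⟨g, rfl⟩ := h H L hH hL
    exact ⟨g, hUL⟩
  refine ⟨H, ⟨hH.prop, fun p hp hpπ hd => ?_⟩, hsub⟩
  haveI := Fact.mk hp
  obtain ⟨P⟩ : Nonempty (Sylow p G) := inferInstance
  obtain ⟨g, hg⟩ := hsub P fun q hq hqd => by
    rw [P.card_eq_multiplicity] at hqd
    exact (Nat.prime_dvd_prime_iff_eq hq hp).mp (hq.dvd_of_dvd_pow hqd) ▸ hpπ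
  have h1 := (Subgroup.card_dvd_of_le hg)
  rw [Subgroup.card_map_of_injective (MulAut.conj g).injective] at h1
  have h2 : H.index ∣ (P : Subgroup G).index := by
    obtain ⟨c, hc⟩ := h1
    refine ⟨c, Nat.eq_of_mul_eq_mul_left (Nat.card_pos (α := (P : Subgroup G))) ?_⟩
    rw [(P : Subgroup G).card_mul_index, ← H.card_mul_index, hc]
    ring
  exact P.not_dvd_index (hd.trans h2)

/-- At most one prime of `π` divides the order. -/
theorem few_primes (h : ∀ r s : ℕ, r.Prime → s.Prime → r ∈ π → s ∈ π → r ∣ Nat.card G → s ∣ Nat.card G → r = s) :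
    Cfsg.IsDPiGroup π G ∧ Cfsg.IsCPiGroup π G := by
  classical
  by_cases hex : ∃ p : ℕ, p.Prime ∧ p ∈ π ∧ p ∣ Nat.card G
  · obtain ⟨p, hp, hpπ, hpd⟩ := hex
    haveI := Fact.mk hp
    have hpg : ∀ {K : Subgroup G}, Cfsg.IsPiSubgroup π K → IsPGroup p K := fun {K} hK => by
      obtain ⟨m, hm⟩ : ∃ m, Nat.card K = p ^ m := ⟨_, Nat.eq_prime_pow_of_unique_prime_dvd Nat.card_pos.ne'
        fun {q} hq hd => h q p hq hp (hK q hq hd) hpπ (hd.trans (Subgroup.card_subgroup_dvd_card K)) hpd⟩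
      exact IsPGroup.of_card hm
    have hsyl : ∀ P : Sylow p G, Cfsg.IsPiHall π (P : Subgroup G) := fun P =>
      ⟨fun q hq hd => by
        rw [P.card_eq_multiplicity] at hd
        exact (Nat.prime_dvd_prime_iff_eq hq hp).mp (hq.dvd_of_dvd_pow hd) ▸ hpπ,
       fun q hq hqπ hd => by
        obtain rfl := h q p hq hp hqπ hpπ (hd.trans (Subgroup.index_dvd_card _)) hpd
        exact P.not_dvd_index hd⟩
    have hconj : ∀ P Q : Sylow p G, ∃ g : G, (Q : Subgroup G) = (P : Subgroup G).map (MulAut.conj g).toMonoidHom :=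
      fun P Q => by
        obtain ⟨g, rfl⟩ := MulAction.exists_smul_eq G P Q
        exact ⟨g, rfl⟩
    have hmax : ∀ {K : Subgroup G}, Maximal (Cfsg.IsPiSubgroup π) K → ∃ P : Sylow p G, (P : Subgroup G) = K :=
      fun {K} hK => by
        obtain ⟨P, hP⟩ := (hpg hK.prop).exists_le_sylow
        exact ⟨P, le_antisymm (hK.2 (hsyl P).1 hP) hP⟩
    have hhall : ∀ {K : Subgroup G}, Cfsg.IsPiHall π K → ∃ P : Sylow p G, (P : Subgroup G) = K :=
      fun {K} hK => ⟨(hpg hK.1).toSylow (hK.2 p hp hpπ), rfl⟩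
    refine ⟨fun H K hH hK => ?_, ?_, fun H K hH hK => ?_⟩
    · obtain ⟨P, rfl⟩ := hmax hH
      obtain ⟨Q, rfl⟩ := hmax hK
      exact hconj P Q
    · obtain ⟨P⟩ : Nonempty (Sylow p G) := inferInstance
      exact ⟨_, hsyl P⟩
    · obtain ⟨P, rfl⟩ := hhall hH
      obtain ⟨Q, rfl⟩ := hhall hK
      exact hconj P Q
  · have hbot : ∀ {K : Subgroup G}, Cfsg.IsPiSubgroup π K → K = ⊥ := fun {K} hK => by
      by_contra hne
      obtain ⟨q, hq, hd⟩ := Nat.exists_prime_and_dvd (fun e => hne (Subgroup.card_eq_one.mp e))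
      exact hex ⟨q, hq, hK q hq hd, hd.trans (Subgroup.card_subgroup_dvd_card K)⟩
    refine ⟨fun H K hH hK => ⟨1, ?_⟩, ⟨⊥, fun q hq hd => ?_, fun q hq hqπ hd => ?_⟩, fun H K hH hK => ⟨1, ?_⟩⟩
    · rw [hbot hH.prop, hbot hK.prop, Subgroup.map_bot]
    · rw [Subgroup.card_bot, Nat.dvd_one] at hd
      exact absurd hd hq.ne_one
    · exact hex ⟨q, hq, hqπ, hd.trans (Subgroup.index_dvd_card _)⟩
    · rw [hbot hH.1, hbot hK.1, Subgroup.map_bot]

/-- Every prime divisor of the order lies in `π`. -/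
theorem all_primes (h : ∀ r : ℕ, r.Prime → r ∣ Nat.card G → r ∈ π) :
    Cfsg.IsDPiGroup π G ∧ Cfsg.IsCPiGroup π G := by
  have hall : ∀ K : Subgroup G, Cfsg.IsPiSubgroup π K := fun K q hq hd =>
    h q hq (hd.trans (Subgroup.card_subgroup_dvd_card K))
  have htop : ∀ {K : Subgroup G}, Cfsg.IsPiHall π K → K = ⊤ := fun {K} hK => by
    rw [← Subgroup.index_eq_one]
    by_contra hne
    obtain ⟨q, hq, hd⟩ := Nat.exists_prime_and_dvd hne
    exact hK.2 q hq (h q hq (hd.trans (Subgroup.index_dvd_card _))) hd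
  refine ⟨fun H K hH hK => ⟨1, ?_⟩, ⟨⊤, hall ⊤, fun q hq _ hd => ?_⟩, fun H K hH hK => ⟨1, ?_⟩⟩
  · rw [le_antisymm le_top (hK.2 (hall ⊤) le_top), le_antisymm le_top (hH.2 (hall ⊤) le_top),
      Subgroup.map_top_of_surjective _ (MulAut.conj (1 : G)).surjective]
  · rw [Subgroup.index_top, Nat.dvd_one] at hd
    exact hq.ne_one hd
  · rw [htop hH, htop hK, Subgroup.map_top_of_surjective _ (MulAut.conj (1 : G)).surjective]

end Cfsg.Agent.PermGp.HallSym
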