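import Cfsg.Agent.Lib.PermGp.HallSym.Primitive
import Mathlib.GroupTheory.Perm.Sign
import Mathlib.Algebra.Group.Pointwise.Finset.Scalar

/-!
# Classification of Hall subgroups of symmetric and alternating groups
-/

set_option autoImplicit false

namespace Cfsg.Agent.PermGp.HallSym

open Equiv MulAction
open scoped Pointwise

universe u

variable {α : Type u} [Fintype α] [DecidableEq α] {π : Set ℕ} {H G : Subgroup (Perm α)}

/-- The possible shapes of `π` in degree `n`. -/
def Shape (π : Set ℕ) (n : ℕ) : Prop := TrivialPi π n ∨ FullPi π n ∨ PointPi π n ∨ SmallPi π n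

/-- The induction hypothesis. -/
def Below (π : Set ℕ) (α : Type u) [Fintype α] : Prop :=
  ∀ (β : Type u) [Fintype β] [DecidableEq β], Fintype.card β < Fintype.card α →
    ∀ G H : Subgroup (Perm β), Ambient G → Cfsg.IsPiHallOf π H G → Shape π (Fintype.card β)

theorem mem_stab_iff {Δ : Finset α} {σ : Perm α} :
    σ ∈ stabilizer (Perm α) Δ ↔ ∀ x, σ x ∈ Δ ↔ x ∈ Δ := by
  rw [mem_stabilizer_iff]
  refine ⟨fun h x => ?_, fun h => Finset.ext fun x => ?_⟩
  · conv_lhs => rw [← h]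
    exact Finset.smul_mem_smul_finset_iff σ
  · rw [← Finset.inv_smul_mem_iff, ← h, Perm.smul_def, ← Perm.mul_apply, mul_inv_cancel, Perm.one_apply]

/-- Restriction to an invariant subtype. -/
def restrict (S : Subgroup (Perm α)) (p : α → Prop) (h : ∀ σ ∈ S, ∀ x, p (σ x) ↔ p x) : S →* Perm (Subtype p) where
  toFun σ := Perm.subtypePerm σ.1 (h σ.1 σ.2)
  map_one' := rfl
  map_mul' _ _ := rfl

theorem sup_eq_top (hG : Ambient G) {W : Subgroup (Perm α)} {σ : Perm α} (hσ : σ ∈ W)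
    (hs : Perm.sign σ = -1) : G ⊔ W = ⊤ := by
  rcases hG with rfl | rfl
  · exact top_sup_eq _
  rw [eq_top_iff]
  intro τ _
  rcases Int.units_eq_one_or (Perm.sign τ) with h | h
  · exact Subgroup.mem_sup_left (Perm.mem_alternatingGroup.mpr h)
  · rw [show τ = (τ * σ⁻¹) * σ by group]
    refine Subgroup.mul_mem_sup (Perm.mem_alternatingGroup.mpr ?_) hσ
    rw [map_mul, Perm.sign_inv, h, hs, neg_mul_neg, one_mul]

theorem ambient_of_le (h : alternatingGroup α ≤ G) : Ambient G := by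
  by_cases hG : G ≤ alternatingGroup α
  · exact Or.inr (le_antisymm hG h)
  · obtain ⟨σ, hσ, hσA⟩ := SetLike.not_le_iff_exists.mp hG
    have hs : Perm.sign σ = -1 := (Int.units_eq_one_or _).resolve_left fun e => hσA (Perm.mem_alternatingGroup.mpr e)
    refine Or.inl ?_
    rw [← sup_eq_left.mpr h, sup_comm]
    exact sup_eq_top (Or.inr rfl) hσ hs

/-- The image of the ambient part contains the alternating group. -/
theorem alternating_le_image (hG : Ambient G) {S : Subgroup (Perm α)} {p : α → Prop} [DecidablePred p]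
    (h : ∀ σ ∈ S, ∀ x, p (σ x) ↔ p x) (hext : ∀ τ : Perm (Subtype p), Perm.ofSubtype τ ∈ S) :
    alternatingGroup (Subtype p) ≤ (G.subgroupOf S).map (restrict S p h) := by
  intro τ hτ
  refine ⟨⟨_, hext τ⟩, ?_, Perm.ext fun x => Subtype.ext (Perm.ofSubtype_apply_coe τ x)⟩
  show Perm.ofSubtype τ ∈ G
  rcases hG with rfl | rfl
  · exact Subgroup.mem_top _
  · rw [Perm.mem_alternatingGroup, Perm.sign_ofSubtype]
    exact Perm.mem_alternatingGroup.mp hτ

/-- The quotient `X` of the order bound avoids `π`. -/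
theorem not_dvd_quot {W : Subgroup (Perm α)} {N X q : ℕ} (hW : Nat.card W ∣ N)
    (hN : (Fintype.card α).factorial = N * X) (hq : ¬ q ∣ W.index) : ¬ q ∣ X := by
  obtain ⟨x, rfl⟩ := hW
  intro hd
  apply hq
  have := W.card_mul_index
  rw [Nat.card_perm, Nat.card_eq_fintype_card (α := α), hN, mul_assoc] at this
  rw [Nat.eq_of_mul_eq_mul_left Nat.card_pos this]
  exact hd.trans (dvd_mul_left X x)

/-- The shape of `π` on an invariant part. -/
theorem shape_image (IH : Below π α) (hG : Ambient G) (hH : Cfsg.IsPiHallOf π H G) {S : Subgroup (Perm α)}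
    {p : α → Prop} [DecidablePred p] (h : ∀ σ ∈ S, ∀ x, p (σ x) ↔ p x)
    (hext : ∀ τ : Perm (Subtype p), Perm.ofSubtype τ ∈ S)
    (hnorm : ∀ g ∈ H, ∀ w ∈ S ⊓ G, g * w * g⁻¹ ∈ S ⊓ G) (hlt : Nat.card (Subtype p) < Fintype.card α) :
    Shape π (Nat.card (Subtype p)) := by
  rw [Nat.card_eq_fintype_card] at hlt ⊢
  exact IH (Subtype p) hlt _ _ (ambient_of_le (alternating_le_image hG h hext)) (image_hall hH (restrict S p h) hnorm)

/-- A small invariant set in the intransitive case. -/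
theorem exists_small_invariant (hnt : ¬ IsPretransitive H α) :
    ∃ Δ : Finset α, 1 ≤ Δ.card ∧ 2 * Δ.card ≤ Fintype.card α ∧ H ≤ stabilizer (Perm α) Δ := by
  classical
  obtain ⟨x, y, hxy⟩ : ∃ x y : α, ∀ h : H, h • x ≠ y := by
    by_contra! hall
    exact hnt ⟨hall⟩
  set Δ := (MulAction.orbit H x).toFinset with hΔ
  have hinv : ∀ σ ∈ H, ∀ z, σ z ∈ Δ ↔ z ∈ Δ := fun σ hσ z => by
    rw [hΔ, Set.mem_toFinset, Set.mem_toFinset]
    rw [show σ z = (⟨σ, hσ⟩ : H) • z from rfl, ← orbit_eq_iff, orbit_smul, orbit_eq_iff]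
  have hx : x ∈ Δ := Set.mem_toFinset.mpr (MulAction.mem_orbit_self x)
  have hy : y ∉ Δ := fun hy => by
    obtain ⟨h, hh⟩ := Set.mem_toFinset.mp hy
    exact hxy h hh
  rcases Nat.lt_or_ge (Fintype.card α) (2 * Δ.card) with hlt | hge
  · refine ⟨Δᶜ, Finset.card_pos.mpr ⟨y, Finset.mem_compl.mpr hy⟩, ?_, fun σ hσ => mem_stab_iff.mpr fun z => ?_⟩
    · rw [Finset.card_compl]; omega
    · rw [Finset.mem_compl, Finset.mem_compl, hinv σ hσ z]
  · exact ⟨Δ, Finset.card_pos.mpr ⟨x, hx⟩, hge, fun σ hσ => mem_stab_iff.mpr (hinv σ hσ)⟩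

/-- The intransitive case. -/
theorem intransitive (IH : Below π α) (hG : Ambient G) (hH : Cfsg.IsPiHallOf π H G)
    (ht : ¬ TrivialPi π (Fintype.card α)) (hf : ¬ FullPi π (Fintype.card α)) (hnt : ¬ IsPretransitive H α) :
    ∃ W, IsModel π W ∧ H ≤ W := by
  classical
  obtain ⟨Δ, hk, h2k, hHW⟩ := exists_small_invariant hnt
  set W := stabilizer (Perm α) Δ with hWdef
  set n := Fintype.card α with hn
  have h5 := five_le ht hf
  set k := Δ.card with hkdef
  set l := n - k with hldef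
  have hkl : k ≤ l := by omega
  have hnkl : n = k + l := by omega
  have hB : Fintype.card {x // x ∉ Δ} = l := by
    rw [Fintype.card_subtype_compl, Fintype.card_coe]
  have hinW : ∀ σ ∈ W, ∀ x, σ x ∈ Δ ↔ x ∈ Δ := fun σ hσ => mem_stab_iff.mp hσ
  have hout : ∀ σ ∈ W, ∀ x, σ x ∉ Δ ↔ x ∉ Δ := fun σ hσ x => not_congr (hinW σ hσ x)
  -- an odd element
  obtain ⟨a, b, hab⟩ := Fintype.one_lt_card_iff.mp (show 1 < Fintype.card {x // x ∉ Δ} by omega)
  have hodd : G ⊔ W = ⊤ := by
    refine sup_eq_top hG (σ := Perm.ofSubtype (Equiv.swap a b))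
      (mem_stab_iff.mpr fun x => not_iff_not.mp (Perm.ofSubtype_apply_mem_iff_mem (p := fun y => y ∉ Δ) (Equiv.swap a b) x)) ?_
    rw [Perm.sign_ofSubtype, Perm.sign_swap hab]
  -- the binomial coefficient
  have hcardW : Nat.card W ∣ k.factorial * l.factorial := by
    let ψ := (restrict W (· ∈ Δ) hinW).prod (restrict W (· ∉ Δ) hout)
    have hψ : Function.Injective ψ := fun σ τ he => Subtype.ext (Perm.ext fun x => by
      by_cases hx : x ∈ Δ
      · exact congrArg (fun f => (f.1 ⟨x, hx⟩).1) he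
      · exact congrArg (fun f => (f.2 ⟨x, hx⟩).1) he)
    have := Subgroup.card_dvd_of_injective ψ hψ
    rwa [Nat.card_prod, Nat.card_perm, Nat.card_perm, Nat.card_eq_fintype_card (α := {x // x ∈ Δ}), Fintype.card_coe,
      Nat.card_eq_fintype_card (α := {x // x ∉ Δ}), hB] at this
  have hfac : n.factorial = k.factorial * l.factorial * n.choose k := by
    rw [← Nat.choose_mul_factorial_mul_factorial (show k ≤ n by omega), ← hldef]; ring
  have hC : ∀ q : ℕ, q.Prime → q ∈ π → ¬ q ∣ (k + l).choose k := fun q hq hqπ => by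
    rw [← hnkl]
    exact not_dvd_quot hcardW hfac (not_dvd_index_over hG hH hHW hodd hq hqπ)
  have hact : ∀ q : ℕ, q.Prime → q ∈ π → q ≤ n → q ≤ l := fun q hq hqπ hle => by
    have h1 : q ∣ n.factorial := hq.dvd_factorial.mpr hle
    rw [hfac] at h1
    rcases hq.dvd_mul.mp h1 with h2 | h2
    · rcases hq.dvd_mul.mp h2 with h3 | h3
      · exact (hq.dvd_factorial.mp h3).trans hkl
      · exact hq.dvd_factorial.mp h3
    · exact absurd (hnkl ▸ h2) (hC q hq hqπ)
  have htl : ¬ TrivialPi π l := fun h => ht fun r s hr hs hrn hsn hrπ hsπ =>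
    h r s hr hs (hact r hr hrπ hrn) (hact s hs hsπ hsn) hrπ hsπ
  -- the large side
  have hext : ∀ τ : Perm {x // x ∉ Δ}, Perm.ofSubtype τ ∈ W := fun τ => mem_stab_iff.mpr fun x =>
    not_iff_not.mp (Perm.ofSubtype_apply_mem_iff_mem (p := fun y => y ∉ Δ) τ x)
  have hhall := image_hall (W' := W) hH (restrict W (· ∉ Δ) hout) fun h hh w hw =>
    ⟨W.mul_mem (W.mul_mem (hHW hh) hw.1) (W.inv_mem (hHW hh)), hG.normal.conj_mem w hw.2 h⟩
  have hsh := IH {x // x ∉ Δ} (by omega) _ _ (ambient_of_le (alternating_le_image hG hout hext)) hhall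
  rw [hB] at hsh
  rcases hsh with h | h | ⟨hlp, hl⟩ | ⟨hl78, hl⟩
  · exact absurd h htl
  · rcases split_cases hk hkl (by omega) (fun q hq hle => hC q hq (h q hq hle)) with ⟨hk1, hp⟩ | ⟨hk3, hl4⟩
    · rw [← hnkl] at hp
      obtain ⟨x, hx⟩ := Finset.card_eq_one.mp (hkdef.symm.trans hk1)
      refine ⟨stabilizer (Perm α) x, .point x ⟨hp, fun r hr hrn => ⟨fun hrπ => ?_, fun hlt => h r hr (by omega)⟩⟩,
        fun σ hσ => ?_⟩
      · exact lt_of_le_of_ne hrn fun e => hf fun q hq hqn => by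
          rcases eq_or_lt_of_le hqn with e' | e'
          · exact (e'.trans e.symm) ▸ hrπ
          · exact h q hq (by omega)
      · have h1 := (hinW σ (hHW hσ) x).mpr (by rw [hx]; exact Finset.mem_singleton_self x)
        rw [hx, Finset.mem_singleton] at h1
        exact h1
    · refine ⟨W, .seven Δ (by omega) ⟨Or.inl rfl, fun r hr hr7 => ⟨fun hrπ => ?_, fun hr23 => h r hr (by omega)⟩⟩
        (hkdef.symm.trans hk3), hHW⟩
      have := hact r hr hrπ (by omega)
      have := hr.two_le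
      have : r ≠ 4 := fun e => by subst e; norm_num at hr
      omega
  · exfalso
    have hl3 : 3 ≤ l := by
      by_contra hlt
      omega
    have hs := succ_prime_of_no_small hk hkl fun q hq hle => hC q hq ((hl q hq (by omega)).mpr (by omega))
    have h1 : l % 2 = 1 := by rcases hlp.eq_two_or_odd with e | e <;> omega
    rcases hs.eq_two_or_odd with e | e <;> omega
  · exact (split_seven_eight hk hkl hl78 (hC 2 Nat.prime_two ((hl 2 Nat.prime_two (by omega)).mpr (Or.inl rfl)))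
      (hC 3 Nat.prime_three ((hl 3 Nat.prime_three (by omega)).mpr (Or.inr rfl)))).elim

/-- A transitive imprimitive group preserves a partition into blocks. -/
theorem exists_blocks [IsPretransitive H α] (hnp : ¬ IsPreprimitive H α) :
    ∃ (P : Finset (Finset α)) (b : ℕ), 2 ≤ b ∧ 2 ≤ P.card ∧ P.card * b = Fintype.card α ∧
      H ≤ stabilizer (Perm α) P ∧ (∀ x, ∃ p ∈ P, x ∈ p) ∧
      (∀ p ∈ P, ∀ q ∈ P, ∀ x, x ∈ p → x ∈ q → p = q) ∧ ∀ p ∈ P, p.card = b := by
  classical
  obtain ⟨B, hB, hnt⟩ : ∃ B : Set α, IsBlock H B ∧ ¬ IsTrivialBlock B := by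
    by_contra! hall
    exact hnp ⟨fun {B} hB => hall B hB⟩
  unfold IsTrivialBlock at hnt
  push Not at hnt
  set Bf := B.toFinset with hBf
  set P := Finset.univ.image (fun h : H => (h : Perm α) • Bf) with hP
  have hcoe : ∀ h : H, (((h : Perm α) • Bf : Finset α) : Set α) = h • B := fun h => by
    rw [Finset.coe_smul_finset, hBf, Set.coe_toFinset]; rfl
  have hdisj : ∀ p ∈ P, ∀ q ∈ P, ∀ x, x ∈ p → x ∈ q → p = q := fun p hp q hq x hxp hxq => by
    obtain ⟨h, -, rfl⟩ := Finset.mem_image.mp hp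
    obtain ⟨h', -, rfl⟩ := Finset.mem_image.mp hq
    rw [← Finset.coe_inj, hcoe, hcoe]
    exact hB.smul_eq_smul_of_nonempty ⟨x, (hcoe h).subset hxp, (hcoe h').subset hxq⟩
  obtain ⟨x0, hx0, y0, hy0, hxy⟩ := hnt.1
  have hcov : ∀ x, ∃ p ∈ P, x ∈ p := fun x => by
    obtain ⟨h, rfl⟩ := MulAction.exists_smul_eq H x0 x
    exact ⟨_, Finset.mem_image.mpr ⟨h, Finset.mem_univ _, rfl⟩,
      Finset.smul_mem_smul_finset (Set.mem_toFinset.mpr hx0)⟩
  have hcard : ∀ p ∈ P, p.card = Bf.card := fun p hp => by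
    obtain ⟨h, -, rfl⟩ := Finset.mem_image.mp hp
    exact Finset.card_smul_finset _ _
  have hsum : P.card * Bf.card = Fintype.card α := by
    rw [← Finset.card_univ (α := α), show (Finset.univ : Finset α) = P.biUnion id by
      ext x; simp only [Finset.mem_univ, Finset.mem_biUnion, id, true_iff]; exact hcov x,
      Finset.card_biUnion (t := id) (fun p hp q hq hne => Finset.disjoint_left.mpr fun x hxp hxq =>
        hne (hdisj p hp q hq x hxp hxq))]
    simp only [id]
    rw [Finset.sum_congr rfl (fun p hp => hcard p hp), Finset.sum_const, smul_eq_mul]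
  have hb : 2 ≤ Bf.card := Finset.one_lt_card.mpr
    ⟨x0, Set.mem_toFinset.mpr hx0, y0, Set.mem_toFinset.mpr hy0, hxy⟩
  have hlt : Bf.card < Fintype.card α := Finset.card_lt_iff_ne_univ _ |>.mpr fun e => hnt.2 (by
    rw [← Set.coe_toFinset B, ← hBf, e, Finset.coe_univ])
  refine ⟨P, Bf.card, hb, ?_, hsum, fun σ hσ => mem_stabilizer_iff.mpr ?_, hcov, hdisj, hcard⟩
  · by_contra hm
    rcases (show P.card = 0 ∨ P.card = 1 by omega) with e | e <;> rw [e] at hsum <;> omega
  · refine Finset.eq_of_subset_of_card_le (fun p hp => ?_) (by rw [Finset.card_smul_finset])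
    obtain ⟨q, hq, rfl⟩ := Finset.mem_smul_finset.mp hp
    obtain ⟨h, -, rfl⟩ := Finset.mem_image.mp hq
    exact Finset.mem_image.mpr ⟨⟨σ, hσ⟩ * h, Finset.mem_univ _, by rw [Subgroup.coe_mul, mul_smul]⟩

/-- The order of a partition stabiliser. -/
theorem card_stab_partition {P : Finset (Finset α)} {b : ℕ}
    (hcov : ∀ x y, (∀ p ∈ P, x ∉ p) → (∀ p ∈ P, y ∉ p) → x = y)
    (hcard : ∀ p ∈ P, p.card = b) :
    Nat.card (stabilizer (Perm α) P) ∣ b.factorial ^ P.card * P.card.factorial := by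
  classical
  set W := stabilizer (Perm α) P
  have hinv : ∀ w ∈ W, ∀ p : Finset α, MulAction.toPermHom (Perm α) (Finset α) w p ∈ P ↔ p ∈ P := fun w hw p => by
    show w • p ∈ P ↔ p ∈ P
    conv_lhs => rw [← mem_stabilizer_iff.mp hw]
    exact Finset.smul_mem_smul_finset_iff w
  let ψ : W →* Perm {p // p ∈ P} :=
    { toFun := fun w => Perm.subtypePerm (MulAction.toPermHom (Perm α) (Finset α) w.1) (hinv w.1 w.2)
      map_one' := Perm.ext fun p => Subtype.ext (one_smul (Perm α) p.1)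
      map_mul' := fun v w => Perm.ext fun p => Subtype.ext (mul_smul v.1 w.1 p.1) }
  have hfix : ∀ w : ψ.ker, ∀ p : {p // p ∈ P}, ∀ x, (w.1.1 x ∈ p.1 ↔ x ∈ p.1) := fun w p x => by
    have h1 : w.1.1 • p.1 = p.1 := congrArg (fun f : Perm {p // p ∈ P} => (f p).1) (MonoidHom.mem_ker.mp w.2)
    exact mem_stab_iff.mp (mem_stabilizer_iff.mpr h1) x
  let χ : ψ.ker →* ((p : {p // p ∈ P}) → Perm {x // x ∈ p.1}) :=
    { toFun := fun w p => Perm.subtypePerm w.1.1 (hfix w p)
      map_one' := rfl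
      map_mul' := fun _ _ => rfl }
  have hχ : Function.Injective χ := fun v w he => Subtype.ext (Subtype.ext (Perm.ext fun x => by
    by_cases hxP : ∃ p ∈ P, x ∈ p
    · obtain ⟨p, hp, hx⟩ := hxP
      exact congrArg (fun f : Perm {x // x ∈ p} => (f ⟨x, hx⟩).1) (congrFun he ⟨p, hp⟩)
    · push Not at hxP
      exact hcov _ _ (fun p hp h => hxP p hp ((hfix v ⟨p, hp⟩ x).mp h))
        fun p hp h => hxP p hp ((hfix w ⟨p, hp⟩ x).mp h)))
  have h1 := Subgroup.card_dvd_of_injective χ hχ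
  rw [Nat.card_pi] at h1
  simp only [Nat.card_eq_fintype_card, Fintype.card_perm, Fintype.card_coe] at h1
  rw [Finset.prod_congr rfl (fun p _ => by rw [hcard p.1 p.2]), Finset.prod_const, Finset.card_univ, Fintype.card_coe] at h1
  have h2 : Nat.card ψ.range ∣ P.card.factorial := by
    have := Subgroup.card_subgroup_dvd_card ψ.range
    rwa [Nat.card_perm, Nat.card_eq_fintype_card (α := {p // p ∈ P}), Fintype.card_coe] at this
  rw [← ψ.ker.card_mul_index, Subgroup.index_ker]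
  refine Nat.mul_dvd_mul ?_ h2
  rwa [Nat.card_eq_fintype_card]

/-- A prime cycle preserving a partition into blocks lies inside a block. -/
theorem cycle_le_block {P : Finset (Finset α)} {b r : ℕ} (hr : r.Prime) (hb : 2 ≤ b) {g : Perm α} (hgc : g.IsCycle)
    (hgs : g.support.card = r) (hg : g • P = P) (hcov : ∀ x, ∃ p ∈ P, x ∈ p)
    (hdisj : ∀ p ∈ P, ∀ q ∈ P, ∀ x, x ∈ p → x ∈ q → p = q) (hcard : ∀ p ∈ P, p.card = b) : r ≤ b := by
  classical
  have hmem : ∀ p ∈ P, g • p ∈ P := fun p hp => hg ▸ Finset.smul_mem_smul_finset hp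
  have hall : ∀ p ∈ P, g • p = p := by
    intro p hp
    by_contra hne
    obtain ⟨x, hx, y, hy, hxy⟩ := Finset.one_lt_card.mp (show 1 < p.card by rw [hcard p hp]; omega)
    have hmove : ∀ z ∈ p, g z ≠ z := fun z hz e => hne (hdisj _ (hmem p hp) p hp z
      (Finset.mem_smul_finset.mpr ⟨z, hz, e⟩) hz)
    obtain ⟨i, hi⟩ := hgc.exists_pow_eq (hmove x hx) (hmove y hy)
    have hfix : g ^ i • p = p := by
      refine hdisj _ ?_ p hp y (Finset.mem_smul_finset.mpr ⟨x, hx, hi⟩) hy
      clear hi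
      induction i with
      | zero => rwa [pow_zero, one_smul]
      | succ i ih => rw [pow_succ', mul_smul]; exact hmem _ ih
    haveI := Fact.mk hr
    have hord : Nat.card (Subgroup.zpowers g) = r := by rw [Nat.card_zpowers, hgc.orderOf, hgs]
    have hne1 : (⟨g ^ i, Subgroup.npow_mem_zpowers g i⟩ : Subgroup.zpowers g) ≠ 1 := fun e => hxy (by
      have e1 : g ^ i = 1 := congrArg Subtype.val e
      rwa [e1, Perm.one_apply] at hi)
    obtain ⟨j, hj⟩ := Subgroup.mem_zpowers_iff.mp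
      (mem_zpowers_of_prime_card hord (g' := ⟨g, Subgroup.mem_zpowers g⟩) hne1)
    have e2 : (g ^ i) ^ j = g := congrArg Subtype.val hj
    apply hne
    rw [← e2]
    exact (stabilizer (Perm α) p).zpow_mem (mem_stabilizer_iff.mpr hfix) j
  obtain ⟨x, hx⟩ := Finset.card_pos.mp (show 0 < g.support.card by rw [hgs]; exact hr.pos)
  obtain ⟨p, hp, hxp⟩ := hcov x
  rw [← hgs, ← hcard p hp]
  refine Finset.card_le_card fun z hz => ?_
  obtain ⟨i, rfl⟩ := hgc.exists_pow_eq (Perm.mem_support.mp hx) (Perm.mem_support.mp hz)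
  have := (stabilizer (Perm α) p).pow_mem (mem_stabilizer_iff.mpr (hall p hp)) i
  exact (mem_stab_iff.mp this x).mpr hxp

/-- The imprimitive case. -/
theorem imprimitive (IH : Below π α) (hG : Ambient G) (hH : Cfsg.IsPiHallOf π H G)
    (ht : ¬ TrivialPi π (Fintype.card α)) (hf : ¬ FullPi π (Fintype.card α)) [IsPretransitive H α]
    (hnp : ¬ IsPreprimitive H α) : ∃ W, IsModel π W ∧ H ≤ W := by
  classical
  obtain ⟨P, b, hb, hm, hn, hHW, hcov, hdisj, hcard⟩ := exists_blocks hnp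
  set n := Fintype.card α with hndef
  set W := stabilizer (Perm α) P with hWdef
  set m := P.card with hmdef
  have h5 := five_le ht hf
  obtain ⟨B0, hB0⟩ := Finset.card_pos.mp (show 0 < P.card by omega)
  obtain ⟨x0, hx0, y0, hy0, hxy0⟩ := Finset.one_lt_card.mp (show 1 < B0.card by rw [hcard B0 hB0]; omega)
  have hswapfix : ∀ x y : α, ∀ q ∈ P, x ∈ q → y ∈ q → ∀ p ∈ P, Equiv.swap x y • p = p := by
    intro x y q hq hxq hyq p hp
    refine mem_stabilizer_iff.mp (mem_stab_iff.mpr fun z => ?_)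
    rcases eq_or_ne z x with rfl | hzx
    · rw [Equiv.swap_apply_left]
      exact ⟨fun h => hdisj q hq p hp y hyq h ▸ hxq, fun h => hdisj q hq p hp z hxq h ▸ hyq⟩
    rcases eq_or_ne z y with rfl | hzy
    · rw [Equiv.swap_apply_right]
      exact ⟨fun h => hdisj q hq p hp x hxq h ▸ hyq, fun h => hdisj q hq p hp z hyq h ▸ hxq⟩
    rw [Equiv.swap_apply_of_ne_of_ne hzx hzy]
  have hsup : G ⊔ W = ⊤ := sup_eq_top hG (σ := Equiv.swap x0 y0)
    (mem_stabilizer_iff.mpr (Finset.eq_of_subset_of_card_le (fun p hp => by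
      obtain ⟨q, hq, rfl⟩ := Finset.mem_smul_finset.mp hp
      rwa [hswapfix x0 y0 B0 hB0 hx0 hy0 q hq]) (by rw [Finset.card_smul_finset]))) (Perm.sign_swap hxy0)
  obtain ⟨X, hX, hXdiv⟩ := exists_partition_count (show 0 < b by omega) m
  rw [hn] at hX
  have hnX : ∀ q : ℕ, q.Prime → q ∈ π → ¬ q ∣ X := fun q hq hqπ =>
    not_dvd_quot (card_stab_partition (fun x _ hx _ => let ⟨p, hp, h⟩ := hcov x; absurd h (hx p hp)) hcard) hX (not_dvd_index_over hG hH hHW hsup hq hqπ)
  have hact : ∀ r : ℕ, r.Prime → r ∈ π → r ≤ n → r ≤ b := fun r hr hrπ hrn => by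
    rcases eq_or_ne r 2 with rfl | hr2
    · exact hb
    obtain ⟨g, hg, hgc, hgs⟩ := exists_cycle (H := H) hr hrn (not_dvd_index hG hH hr hrπ (Or.inl hr2))
    exact cycle_le_block hr hb hgc hgs (hHW hg) hcov hdisj hcard
  have htb : ¬ TrivialPi π b := fun h => ht fun r s hr hs hrn hsn hrπ hsπ =>
    h r s hr hs (hact r hr hrπ hrn) (hact s hs hsπ hsn) hrπ hsπ
  have hb3 : 3 ≤ b := by
    obtain ⟨r, s, hr, hs, hrs, hsb, -, -⟩ := exists_two htb
    have := hr.two_le
    omega
  -- the group induced on one block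
  set K := ⨅ p ∈ P, stabilizer (Perm α) p with hK
  have hKmem : ∀ σ, σ ∈ K ↔ ∀ p ∈ P, σ • p = p := fun σ => by
    simp [hK, Subgroup.mem_iInf]
  have hKin : ∀ σ ∈ K, ∀ x, σ x ∈ B0 ↔ x ∈ B0 := fun σ hσ =>
    mem_stab_iff.mp (mem_stabilizer_iff.mpr ((hKmem σ).mp hσ B0 hB0))
  have hext : ∀ τ : Perm {x // x ∈ B0}, Perm.ofSubtype τ ∈ K := fun τ => (hKmem _).mpr fun p hp => by
    refine mem_stabilizer_iff.mp (mem_stab_iff.mpr fun z => ?_)
    by_cases hz : z ∈ B0
    · rcases eq_or_ne p B0 with rfl | hne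
      · exact Perm.ofSubtype_apply_mem_iff_mem (p := fun y => y ∈ p) τ z
      · rw [Perm.ofSubtype_apply_of_mem τ hz]
        exact iff_of_false (fun h => hne (hdisj p hp B0 hB0 _ h (τ ⟨z, hz⟩).2)) fun h => hne (hdisj p hp B0 hB0 _ h hz)
    · rw [Perm.ofSubtype_apply_of_not_mem τ hz]
  have hnorm : ∀ h ∈ H, ∀ w ∈ K ⊓ G, h * w * h⁻¹ ∈ K ⊓ G := fun h hh w hw =>
    ⟨(hKmem _).mpr fun p hp => by
      have h1 : h⁻¹ • p ∈ P := by
        have h2 := mem_stabilizer_iff.mp (W.inv_mem (hHW hh))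
        exact h2 ▸ Finset.smul_mem_smul_finset hp
      rw [mul_smul, mul_smul, (hKmem w).mp hw.1 _ h1, smul_inv_smul], hG.normal.conj_mem w hw.2 h⟩
  have hbn : b < n := by
    rw [← hn]; exact lt_of_lt_of_le (by omega) (Nat.mul_le_mul_right b hm)
  have hB : Nat.card {x // x ∈ B0} = b := by rw [Nat.card_eq_fintype_card, Fintype.card_coe, hcard B0 hB0]
  have hsh := shape_image IH hG hH hKin hext hnorm (hB.trans_lt hbn)
  rw [hB] at hsh
  -- the second binomial factor
  have h2b : ∀ q : ℕ, q.Prime → q ∈ π → ¬ q ∣ ((b - 1) + b).choose (b - 1) := fun q hq hqπ hd => by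
    refine hnX q hq hqπ (hd.trans ?_)
    have := hXdiv 2 (by omega) hm
    rwa [show 2 * b - 1 = (b - 1) + b by omega] at this
  rcases hsh with h | h | ⟨hbp, h⟩ | ⟨hb78, h⟩
  · exact absurd h htb
  · have hb4 := block_cases hb3 fun q hq hlt => h2b q hq (h q hq hlt.le)
    subst hb4
    have hπ : ∀ r : ℕ, r.Prime → r ≤ n → (r ∈ π ↔ r = 2 ∨ r = 3) := fun r hr hrn => ⟨fun hrπ => by
      have := hact r hr hrπ hrn
      have := hr.two_le
      have : r ≠ 4 := fun e => by subst e; norm_num at hr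
      omega, fun hr' => h r hr (by omega)⟩
    have hm2 : m = 2 := by
      by_contra hne
      refine hnX 3 Nat.prime_three (h 3 Nat.prime_three (by omega)) ((show 3 ∣ (3 * 4 - 1).choose (4 - 1) by decide).trans (hXdiv 3 (by omega) (by omega)))
    obtain ⟨B1, B2, hne, hPeq⟩ := Finset.card_eq_two.mp (hmdef.symm.trans hm2)
    have hB1 : B1 ∈ P := hPeq ▸ Finset.mem_insert_self _ _
    have hB2 : B2 ∈ P := hPeq ▸ Finset.mem_insert_of_mem (Finset.mem_singleton_self _)
    have hcompl : B2 = B1ᶜ := Finset.eq_of_subset_of_card_le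
      (fun z hz => Finset.mem_compl.mpr fun h1 => hne (hdisj B1 hB1 B2 hB2 z h1 hz))
      (by rw [Finset.card_compl, hcard B1 hB1, hcard B2 hB2]; omega)
    have hn8 : n = 8 := by omega
    refine ⟨stabilizer (Perm α) ({B1, B1ᶜ} : Finset (Finset α)),
      .eight B1 hn8 ⟨Or.inr rfl, fun r hr hle => hπ r hr (by omega)⟩ (hcard B1 hB1), ?_⟩
    rw [← hcompl, ← hPeq]
    exact hHW
  · exfalso
    have hb4 := block_cases hb3 fun q hq hlt => h2b q hq ((h q hq hlt.le).mpr hlt)
    subst hb4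
    norm_num at hbp
  · exfalso
    rcases hb78 with rfl | rfl
    · exact h2b 2 Nat.prime_two ((h 2 Nat.prime_two (by norm_num)).mpr (Or.inl rfl)) (by decide)
    · exact h2b 3 Nat.prime_three ((h 3 Nat.prime_three (by norm_num)).mpr (Or.inr rfl)) (by decide)

omit [Fintype α] [DecidableEq α] in
theorem shape_of_model [Fintype α] [DecidableEq α] {W : Subgroup (Perm α)} (h : IsModel π W) :
    Shape π (Fintype.card α) := by
  cases h with
  | point x h => exact Or.inr (Or.inr (Or.inl h))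
  | seven Δ h7 h hΔ => exact Or.inr (Or.inr (Or.inr (h7.symm ▸ h)))
  | eight Δ h8 h hΔ => exact Or.inr (Or.inr (Or.inr (h8.symm ▸ h)))

/-- **Hall subgroups of symmetric and alternating groups for a proper set of primes.** -/
theorem classify (hG : Ambient G) (hH : Cfsg.IsPiHallOf π H G) (ht : ¬ TrivialPi π (Fintype.card α))
    (hf : ¬ FullPi π (Fintype.card α)) : ∃ W, IsModel π W ∧ H ≤ W := by
  induction hn : Fintype.card α using Nat.strong_induction_on generalizing α with
  | _ n IH =>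
    have hbelow : Below π α := fun β _ _ hlt G' H' hG' hH' => by
      by_cases ht' : TrivialPi π (Fintype.card β)
      · exact Or.inl ht'
      by_cases hf' : FullPi π (Fintype.card β)
      · exact Or.inr (Or.inl hf')
      obtain ⟨W, hW, -⟩ := IH _ (hn ▸ hlt) hG' hH' ht' hf' rfl
      exact shape_of_model hW
    by_cases htr : IsPretransitive H α
    · exact imprimitive hbelow hG hH ht hf (not_primitive hG hH ht hf)
    · exact intransitive hbelow hG hH ht hf htr

end Cfsg.Agent.PermGp.HallSym
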