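import Cfsg.Agent.Lib.PermGp.HallSym.Main
import Mathlib.GroupTheory.Sylow
import Mathlib.Logic.Equiv.Fintype

/-!
# The exceptional Hall subgroups of symmetric groups
-/

set_option autoImplicit false

namespace Cfsg.Agent.PermGp.HallSym

open Equiv MulAction
open scoped Pointwise

variable {α : Type*} [Fintype α] [DecidableEq α] {π : Set ℕ}

theorem exists_smul_finset {s t : Finset α} (h : s.card = t.card) : ∃ σ : Perm α, σ • s = t := by
  have e : {x // x ∈ s} ≃ {x // x ∈ t} := Fintype.equivOfCardEq (by simp [h])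
  refine ⟨e.extendSubtype, Finset.eq_of_subset_of_card_le (fun y hy => ?_) (by rw [Finset.card_smul_finset, h])⟩
  obtain ⟨x, hx, rfl⟩ := Finset.mem_smul_finset.mp hy
  exact e.extendSubtype_mem x hx

theorem smul_compl_finset (σ : Perm α) (s : Finset α) : σ • sᶜ = (σ • s)ᶜ := by
  ext x
  rw [Finset.mem_compl, ← Finset.inv_smul_mem_iff, ← Finset.inv_smul_mem_iff, Finset.mem_compl]

theorem smul_pair (σ : Perm α) (s : Finset α) :
    σ • ({s, sᶜ} : Finset (Finset α)) = {σ • s, (σ • s)ᶜ} := by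
  rw [Finset.smul_finset_insert, Finset.smul_finset_singleton, smul_compl_finset]

theorem index_stab_finset (Δ : Finset α) :
    (stabilizer (Perm α) Δ).index = (Fintype.card α).choose Δ.card := by
  rw [index_stabilizer, show (orbit (Perm α) Δ) = ↑((Finset.univ : Finset α).powersetCard Δ.card) by
    ext s
    rw [Finset.mem_coe, Finset.mem_powersetCard]
    constructor
    · rintro ⟨σ, rfl⟩
      exact ⟨Finset.subset_univ _, Finset.card_smul_finset _ _⟩
    · rintro ⟨-, hs⟩
      exact exists_smul_finset hs.symm, Set.ncard_coe_finset, Finset.card_powersetCard, Finset.card_univ]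

theorem index_stab_pair {Δ : Finset α} (h8 : Fintype.card α = 8) (hΔ : Δ.card = 4) :
    (stabilizer (Perm α) ({Δ, Δᶜ} : Finset (Finset α))).index = 35 := by
  set W := stabilizer (Perm α) ({Δ, Δᶜ} : Finset (Finset α)) with hW
  set S := stabilizer (Perm α) Δ
  have hSW : S ≤ W := fun σ hσ => by
    rw [hW, mem_stabilizer_iff, smul_pair, mem_stabilizer_iff.mp hσ]
  have hc : Δᶜ.card = 4 := by rw [Finset.card_compl, h8, hΔ]
  have hrel : S.relIndex W = 2 := by
    show (S.subgroupOf W).index = 2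
    rw [show S.subgroupOf W = stabilizer W Δ from rfl, index_stabilizer,
      show orbit W Δ = {Δ, Δᶜ} by
        ext s
        constructor
        · rintro ⟨w, rfl⟩
          have h1 : (w : Perm α) • Δ ∈ ({Δ, Δᶜ} : Finset (Finset α)) := by
            have h2 := mem_stabilizer_iff.mp w.2
            rw [← h2]
            exact Finset.smul_mem_smul_finset (Finset.mem_insert_self _ _)
          rwa [Finset.mem_insert, Finset.mem_singleton] at h1
        · rintro (rfl | rfl)
          · exact mem_orbit_self _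
          · obtain ⟨σ, hσ⟩ := exists_smul_finset (hΔ.trans hc.symm)
            exact ⟨⟨σ, by rw [hW, mem_stabilizer_iff, smul_pair, hσ, compl_compl, Finset.pair_comm]⟩, hσ⟩,
      Set.ncard_pair]
    intro e
    obtain ⟨x, hx⟩ := Finset.card_pos.mp (show 0 < Δ.card by omega)
    exact Finset.mem_compl.mp (e ▸ hx) hx
  have h := Subgroup.relIndex_mul_index hSW
  rw [hrel, index_stab_finset, h8, hΔ, show Nat.choose 8 4 = 70 by rfl] at h
  omega

/-- The models are Hall subgroups of the symmetric group. -/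
theorem IsModel.isPiHall {W : Subgroup (Perm α)} (h : IsModel π W) : Cfsg.IsPiHall π W := by
  have hcard := W.card_mul_index
  rw [Nat.card_perm, Nat.card_eq_fintype_card (α := α)] at hcard
  have hle : ∀ q : ℕ, q.Prime → q ∣ Nat.card W → q ≤ Fintype.card α := fun q hq hd =>
    (prime_dvd_card_perm hq).mp (hd.trans (Subgroup.card_subgroup_dvd_card W))
  have h23 : ∀ q a b : ℕ, q.Prime → q ∣ 2 ^ a * 3 ^ b → q = 2 ∨ q = 3 := fun q a b hq hd => by
    rcases hq.dvd_mul.mp hd with h | h
    · exact Or.inl ((Nat.prime_dvd_prime_iff_eq hq Nat.prime_two).mp (hq.dvd_of_dvd_pow h))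
    · exact Or.inr ((Nat.prime_dvd_prime_iff_eq hq Nat.prime_three).mp (hq.dvd_of_dvd_pow h))
  cases h with
  | point x h =>
    obtain ⟨hp, hπ⟩ := h
    have hidx : (stabilizer (Perm α) x).index = Fintype.card α := by
      rw [index_stabilizer_of_transitive, Nat.card_eq_fintype_card]
    rw [hidx, mul_comm, ← Nat.mul_factorial_pred hp.ne_zero] at hcard
    have hW := Nat.eq_of_mul_eq_mul_left hp.pos hcard
    refine ⟨fun q hq hd => ?_, fun q hq hqπ hd => ?_⟩
    · rw [hW, hq.dvd_factorial] at hd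
      have := hq.two_le
      exact (hπ q hq (by omega)).mpr (by omega)
    · rw [hidx] at hd
      obtain rfl := (Nat.prime_dvd_prime_iff_eq hq hp).mp hd
      exact lt_irrefl _ ((hπ _ hp le_rfl).mp hqπ)
  | seven Δ h7 h hΔ =>
    have hidx : (stabilizer (Perm α) Δ).index = 35 := by rw [index_stab_finset, h7, hΔ]; rfl
    rw [hidx, h7, show Nat.factorial 7 = (2 ^ 4 * 3 ^ 2) * 35 from rfl] at hcard
    have hW := Nat.eq_of_mul_eq_mul_right (by norm_num) hcard
    refine ⟨fun q hq hd => (h.2 q hq (h7 ▸ hle q hq hd)).mpr (h23 q 4 2 hq (hW ▸ hd)), fun q hq hqπ hd => ?_⟩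
    rw [hidx] at hd
    have hq7 : q ≤ 7 := by
      rcases hq.dvd_mul.mp (show q ∣ 5 * 7 from hd) with e | e <;>
        have := Nat.le_of_dvd (by norm_num) e <;> omega
    rcases (h.2 q hq hq7).mp hqπ with rfl | rfl <;> revert hd <;> decide
  | eight Δ h8 h hΔ =>
    have hidx := index_stab_pair h8 hΔ
    rw [hidx, h8, show Nat.factorial 8 = (2 ^ 7 * 3 ^ 2) * 35 from rfl] at hcard
    have hW := Nat.eq_of_mul_eq_mul_right (by norm_num) hcard
    refine ⟨fun q hq hd => (h.2 q hq (h8 ▸ hle q hq hd)).mpr (h23 q 7 2 hq (hW ▸ hd)), fun q hq hqπ hd => ?_⟩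
    rw [hidx] at hd
    have hq7 : q ≤ 8 := by
      rcases hq.dvd_mul.mp (show q ∣ 5 * 7 from hd) with e | e <;>
        have := Nat.le_of_dvd (by norm_num) e <;> omega
    rcases (h.2 q hq hq7).mp hqπ with rfl | rfl <;> revert hd <;> decide

/-- Models contain odd permutations. -/
theorem IsModel.exists_odd {W : Subgroup (Perm α)} (h : IsModel π W) (h3 : 3 ≤ Fintype.card α) :
    ∃ σ ∈ W, Perm.sign σ = -1 := by
  have key : ∀ s : Finset α, 1 < s.card → ∃ σ, σ ∈ stabilizer (Perm α) s ∧ Perm.sign σ = -1 ∧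
      (∀ x, x ∉ s → σ x = x) := fun s hs => by
    obtain ⟨x, hx, y, hy, hxy⟩ := Finset.one_lt_card.mp hs
    refine ⟨Equiv.swap x y, mem_stab_iff.mpr fun z => ?_, Perm.sign_swap hxy, fun z hz => ?_⟩
    · rw [Equiv.swap_apply_def]
      split_ifs with e1 e2
      · subst e1; exact iff_of_true hy hx
      · subst e2; exact iff_of_true hx hy
      · rfl
    · exact Equiv.swap_apply_of_ne_of_ne (fun e => hz (e ▸ hx)) fun e => hz (e ▸ hy)
  cases h with
  | point x h =>
    obtain ⟨σ, -, hs, hfix⟩ := key ({x}ᶜ) (by rw [Finset.card_compl, Finset.card_singleton]; omega)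
    exact ⟨σ, hfix x (by simp), hs⟩
  | seven Δ h7 h hΔ =>
    obtain ⟨σ, hσ, hs, -⟩ := key Δ (by omega)
    exact ⟨σ, hσ, hs⟩
  | eight Δ h8 h hΔ =>
    obtain ⟨σ, hσ, hs, -⟩ := key Δ (by omega)
    exact ⟨σ, by rw [mem_stabilizer_iff, smul_pair, mem_stabilizer_iff.mp hσ], hs⟩

/-- Two models for the same `π` are conjugate. -/
theorem IsModel.conj {W W' : Subgroup (Perm α)} (h : IsModel π W) (h' : IsModel π W') :
    ∃ σ : Perm α, W' = W.map (MulAut.conj σ).toMonoidHom := by
  have no : ∀ {n}, Fintype.card α = n → PointPi π (Fintype.card α) → (n = 7 ∨ n = 8) → SmallPi π n → False := by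
    rintro n hn ⟨hp, hπ⟩ (rfl | rfl) hs
    · have h5 := (hπ 5 (by norm_num) (by omega)).mpr (by omega)
      rcases (hs.2 5 (by norm_num) (by omega)).mp h5 with e | e <;> omega
    · rw [hn] at hp; norm_num at hp
  cases h with
  | point x h =>
    cases h' with
    | point y h' => exact ⟨Equiv.swap x y, by
        conv_lhs => rw [← Equiv.swap_apply_left x y]
        exact stabilizer_smul_eq_stabilizer_map_conj (Equiv.swap x y) x⟩
    | seven Δ h7 h' hΔ => exact (no h7 h (Or.inl rfl) h').elim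
    | eight Δ h8 h' hΔ => exact (no h8 h (Or.inr rfl) h').elim
  | seven Δ h7 h hΔ =>
    cases h' with
    | point y h' => exact (no h7 h' (Or.inl rfl) h).elim
    | seven Δ' _ h' hΔ' =>
      obtain ⟨σ, rfl⟩ := exists_smul_finset (hΔ.trans hΔ'.symm)
      exact ⟨σ, stabilizer_smul_eq_stabilizer_map_conj σ Δ⟩
    | eight Δ' h8 h' hΔ' => omega
  | eight Δ h8 h hΔ =>
    cases h' with
    | point y h' => exact (no h8 h' (Or.inr rfl) h).elim
    | seven Δ' h7 h' hΔ' => omega
    | eight Δ' _ h' hΔ' =>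
      obtain ⟨σ, rfl⟩ := exists_smul_finset (hΔ.trans hΔ'.symm)
      exact ⟨σ, by rw [← smul_pair]; exact stabilizer_smul_eq_stabilizer_map_conj σ _⟩

/-- A shape gives a model. -/
theorem exists_model (h : PointPi π (Fintype.card α) ∨ SmallPi π (Fintype.card α)) :
    ∃ W : Subgroup (Perm α), IsModel π W := by
  rcases h with h | ⟨e | e, h⟩
  · obtain ⟨x⟩ : Nonempty α := Fintype.card_pos_iff.mp h.1.pos
    exact ⟨_, .point x h⟩
  · obtain ⟨Δ, -, hΔ⟩ := Finset.exists_subset_card_eq (show 3 ≤ (Finset.univ : Finset α).card by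
      rw [Finset.card_univ]; omega)
    exact ⟨_, .seven Δ e ⟨Or.inl rfl, e ▸ h⟩ hΔ⟩
  · obtain ⟨Δ, -, hΔ⟩ := Finset.exists_subset_card_eq (show 4 ≤ (Finset.univ : Finset α).card by
      rw [Finset.card_univ]; omega)
    exact ⟨_, .eight Δ e ⟨Or.inr rfl, e ▸ h⟩ hΔ⟩

theorem model_shape {W : Subgroup (Perm α)} (h : IsModel π W) :
    PointPi π (Fintype.card α) ∨ SmallPi π (Fintype.card α) := by
  cases h with
  | point x h => exact Or.inl h
  | seven Δ h7 h hΔ => exact Or.inr (h7.symm ▸ h)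
  | eight Δ h8 h hΔ => exact Or.inr (h8.symm ▸ h)

end Cfsg.Agent.PermGp.HallSym
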