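import Cfsg.Agent.Lib.PermGp.HallSym.Basic
import Cfsg.Agent.Lib.PermGp.JordanCycle
import Cfsg.Agent.Lib.PermGp.PrimeDegree
import Cfsg.Agent.S0676
import Mathlib.GroupTheory.Transfer
import Mathlib.GroupTheory.SpecificGroups.Alternating.Simple
import Mathlib.GroupTheory.GroupAction.MultipleTransitivity

/-!
# Hall subgroups of symmetric groups are not primitive
-/

set_option autoImplicit false

namespace Cfsg.Agent.PermGp.HallSym

open Equiv MulAction

variable {α : Type*} [Fintype α] [DecidableEq α] {π : Set ℕ} {H G : Subgroup (Perm α)}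

/-- A solvable transitive group of prime degree has a normal Sylow subgroup. -/
theorem card_sylow_eq_one {p : ℕ} [Fact p.Prime] (hα : Fintype.card α = p) (hprim : IsPreprimitive H α)
    (hs : Group.IsSolvable H) : Nat.card (Sylow p H) = 1 := by
  classical
  haveI : IsPretransitive H α := hprim.toIsPretransitive
  obtain ⟨m, hm⟩ := hs
  have hP : (∃ k, derivedSeries H k = ⊥) := ⟨m, hm⟩
  have hk := Nat.find_spec hP
  obtain ⟨j, hj⟩ : ∃ j, Nat.find hP = j + 1 := by
    refine Nat.exists_eq_succ_of_ne_zero fun e => ?_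
    rw [e, derivedSeries_zero] at hk
    have := prime_dvd_card hα H
    rw [← Subgroup.card_top, hk, Subgroup.card_bot, Nat.dvd_one] at this
    exact (Fact.out : p.Prime).ne_one this
  set A := derivedSeries H j with hA
  have hAne : A ≠ ⊥ := fun e => Nat.find_min hP (by omega : j < Nat.find hP) e
  haveI : A.Normal := derivedSeries_normal H j
  have hAc : ∀ u ∈ A, ∀ v ∈ A, u * v = v * u := fun u hu v hv => by
    have : u * v * u⁻¹ * v⁻¹ ∈ derivedSeries H (j + 1) := by
      rw [derivedSeries_succ]; exact Subgroup.commutator_mem_commutator hu hv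
    rw [← hj, hk, Subgroup.mem_bot, mul_inv_eq_one, mul_inv_eq_iff_eq_mul] at this
    exact this
  haveI := hprim
  haveI : IsPretransitive A α := normal_transitive A hAne
  obtain ⟨x⟩ : Nonempty α := Fintype.card_pos_iff.mp (hα ▸ (Fact.out : p.Prime).pos)
  have hstab : stabilizer A x = ⊥ := by
    rw [Subgroup.eq_bot_iff_forall]
    intro u hu
    refine Subtype.ext (perm_ext fun z => ?_)
    obtain ⟨v, rfl⟩ := MulAction.exists_smul_eq A x z
    show (u : H) • (v : H) • x = (1 : H) • (v : H) • x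
    rw [one_smul, ← mul_smul, hAc u u.2 v v.2, mul_smul]
    congr 1
  have hcard : Nat.card A = p := by
    rw [← card_mul_card_stabilizer (G := A) x, hstab, Subgroup.card_bot, mul_one, Nat.card_eq_fintype_card, hα]
  let P : Sylow p H := Sylow.ofCard A (by rw [hcard, factorization_card hα H, pow_one])
  haveI : (P : Subgroup H).Normal := (inferInstance : A.Normal)
  haveI := Sylow.unique_of_normal P inferInstance
  exact Nat.card_unique

/-- A non-solvable Hall group of prime degree has a Sylow normaliser of even order. -/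
theorem normalizer_even {p : ℕ} [Fact p.Prime] (hα : Fintype.card α = p) (hprim : IsPreprimitive H α)
    (hns : ¬ Group.IsSolvable H) (hpr : ∀ q : ℕ, q.Prime → q ∣ Nat.card H → q ∣ p - 1 → q = 2) (P : Sylow p H) :
    Even (Nat.card (Subgroup.normalizer ((P : Subgroup H) : Set H))) := by
  haveI : IsPretransitive H α := hprim.toIsPretransitive
  obtain ⟨d, hd, hN⟩ := card_normalizer hα H P
  rw [hN]
  by_contra hodd
  have hd1 : d = 1 := by
    by_contra hne
    obtain ⟨q, hq, hqd⟩ := Nat.exists_prime_and_dvd hne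
    have h2 := hpr q hq (((hqd.trans (dvd_mul_left d p)).trans hN.symm.dvd).trans (Subgroup.card_subgroup_dvd_card _))
      (hqd.trans hd)
    exact hodd (even_iff_two_dvd.mpr ((h2 ▸ hqd).trans (dvd_mul_left d p)))
  rw [hd1, mul_one] at hN
  have hPc : Nat.card (P : Subgroup H) = p := card_sylow hα H P
  have heq : (P : Subgroup H) = Subgroup.normalizer ((P : Subgroup H) : Set H) :=
    Subgroup.eq_of_le_of_card_ge Subgroup.le_normalizer (by rw [hN, hPc])
  haveI : IsCyclic (P : Subgroup H) := isCyclic_of_prime_card hPc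
  have hle : Subgroup.normalizer ((P : Subgroup H) : Set H) ≤ Subgroup.centralizer ((P : Subgroup H) : Set H) := by
    rw [← heq]
    intro u hu
    rw [Subgroup.mem_centralizer_iff]
    intro v hv
    letI : CommGroup (P : Subgroup H) := IsCyclic.commGroup
    exact congrArg Subtype.val (mul_comm (⟨v, hv⟩ : (P : Subgroup H)) ⟨u, hu⟩)
  set K := (MonoidHom.transferSylow P hle).ker with hK
  have hKp := MonoidHom.not_dvd_card_ker_transferSylow P hle
  apply hns
  by_cases hK1 : K = ⊥
  · have := (MonoidHom.ker_transferSylow_isComplement' P hle).card_mul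
    rw [show (MonoidHom.transferSylow P hle).ker = ⊥ from hK1, Subgroup.card_bot, one_mul] at this
    have htop : (P : Subgroup H) = ⊤ := Subgroup.eq_top_of_card_eq _ this
    haveI : IsCyclic H := isCyclic_of_surjective (P : Subgroup H).subtype (fun h => ⟨⟨h, htop ▸ Subgroup.mem_top h⟩, rfl⟩)
    letI : CommGroup H := IsCyclic.commGroup
    infer_instance
  · exfalso
    haveI := hprim
    haveI : IsPretransitive K α := normal_transitive K hK1
    obtain ⟨x⟩ : Nonempty α := Fintype.card_pos_iff.mp (hα ▸ (Fact.out : p.Prime).pos)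
    exact hKp ⟨_, by rw [← card_mul_card_stabilizer (G := K) x, Nat.card_eq_fintype_card, hα]⟩

theorem desc_dvd_of_three_transitive (h : IsMultiplyPretransitive H α 3) (h3 : 3 ≤ Fintype.card α) :
    Fintype.card α * (Fintype.card α - 1) * (Fintype.card α - 2) ∣ Nat.card H := by
  obtain ⟨f⟩ : Nonempty (Fin 3 ↪ α) := Function.Embedding.nonempty_of_card_le (by simpa using h3)
  have := Subgroup.index_dvd_card (stabilizer H f)
  rw [@MulAction.index_stabilizer_of_transitive H (Fin 3 ↪ α) _ _ f h, Nat.card_eq_fintype_card (α := Fin 3 ↪ α), Fintype.card_embedding_eq, Fintype.card_fin,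
    Nat.descFactorial_succ, Nat.descFactorial_succ, Nat.descFactorial_succ, Nat.descFactorial_zero] at this
  convert this using 1
  simp; ring

/-- The alternating group has no subgroup of index three in degree five. -/
theorem relIndex_ne_three (h5 : Fintype.card α = 5) : H.relIndex (alternatingGroup α) ≠ 3 := by
  intro h
  haveI := alternatingGroup.isSimpleGroup (α := α) (by rw [Nat.card_eq_fintype_card]; omega)
  set M := H.subgroupOf (alternatingGroup α)
  have hM : M.index = 3 := h
  let φ := MulAction.toPermHom (alternatingGroup α) (alternatingGroup α ⧸ M)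
  rcases IsSimpleGroup.eq_bot_or_eq_top_of_normal φ.ker inferInstance with h0 | h0
  · have := Nat.card_le_card_of_injective φ ((MonoidHom.ker_eq_bot_iff φ).mp h0)
    rw [Nat.card_perm, ← Subgroup.index, hM] at this
    haveI : Nontrivial α := Fintype.one_lt_card_iff_nontrivial.mp (by omega)
    have hc := nat_card_alternatingGroup (α := α)
    rw [Nat.card_eq_fintype_card (α := α), h5] at hc
    have : Nat.card (alternatingGroup α) = 60 := by rw [hc]; rfl
    have h6 : Nat.factorial 3 = 6 := rfl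
    omega
  · have : M = ⊤ := by
      rw [eq_top_iff]
      intro a _
      have ha : φ a = 1 := (h0 ▸ Subgroup.mem_top a : a ∈ φ.ker)
      have h1 : a • ((1 : alternatingGroup α) : alternatingGroup α ⧸ M) = ((1 : alternatingGroup α) : alternatingGroup α ⧸ M) :=
        Equiv.congr_fun ha ((1 : alternatingGroup α) : alternatingGroup α ⧸ M)
      rw [MulAction.Quotient.smul_mk, smul_eq_mul, mul_one, QuotientGroup.eq, mul_one] at h1
      exact M.inv_mem_iff.mp h1
    rw [this, Subgroup.index_top] at hM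
    omega

/-- Prime degree. -/
theorem not_hall_prime_degree (hG : Ambient G) (hH : Cfsg.IsPiHallOf π H G) (ht : ¬ TrivialPi π (Fintype.card α))
    (hf : ¬ FullPi π (Fintype.card α)) (hprim : IsPreprimitive H α)
    (hbig : ∀ r : ℕ, r.Prime → r ≤ Fintype.card α → r ∈ π → (r ≠ 2 ∨ G = ⊤) → Fintype.card α ≤ r + 2)
    (hp : (Fintype.card α).Prime) : False := by
  classical
  have h5 := five_le ht hf
  set p := Fintype.card α with hpdef
  haveI := Fact.mk hp
  haveI : IsPretransitive H α := hprim.toIsPretransitive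
  have hpodd : p % 2 = 1 := by rcases hp.eq_two_or_odd with e | e <;> omega
  have hpr : ∀ q : ℕ, q.Prime → q ∈ π → q ≤ p → q = 2 ∨ q + 2 = p ∨ q = p := fun q hq hqπ hle => by
    by_cases hq2 : q = 2
    · exact Or.inl hq2
    · have := hbig q hq hle hqπ (Or.inl hq2)
      have : q % 2 = 1 := by rcases hq.eq_two_or_odd with e | e <;> omega
      omega
  have hHdvd : ∀ q : ℕ, q.Prime → q ∣ Nat.card H → q ∈ π ∧ q ≤ p := fun q hq hd => ⟨hH.2.1 q hq hd,
    (prime_dvd_card_perm hq).mp (hd.trans (Subgroup.card_subgroup_dvd_card H))⟩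
  obtain ⟨r, s, hr, hs, hrs, hsn, hrπ, hsπ⟩ := exists_two ht
  -- two is in `π`
  obtain ⟨P⟩ : Nonempty (Sylow p H) := inferInstance
  obtain ⟨d, hd, hcard, hmod⟩ := card_eq_mul_sylow rfl H P
  by_cases hsol : Group.IsSolvable H
  · rw [card_sylow_eq_one rfl hprim hsol, mul_one] at hcard
    have hodd_in : ∀ q : ℕ, q.Prime → q ∈ π → q + 2 = p → False := fun q hq hqπ he => by
      have hq2 : q ≠ 2 := fun e => by omega
      have hdv : q ∣ Nat.card H := by
        have h1 : q ∣ Nat.card H * H.index := by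
          rw [Subgroup.card_mul_index]; exact (prime_dvd_card_perm hq).mpr (by omega)
        exact (hq.dvd_mul.mp h1).resolve_right (not_dvd_index hG hH hq hqπ (Or.inl hq2))
      rw [hcard] at hdv
      rcases hq.dvd_mul.mp hdv with h | h
      · have := (Nat.prime_dvd_prime_iff_eq hq hp).mp h; omega
      · have h1 : q ∣ p - 1 := h.trans hd
        rw [show p - 1 = q + 1 by omega] at h1
        exact hq.ne_one (Nat.dvd_one.mp ((Nat.dvd_add_right dvd_rfl).mp h1))
    have h2π : 2 ∈ π := by
      rcases hpr r hr hrπ (by omega) with e | e | e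
      · exact e ▸ hrπ
      · exact absurd e (hodd_in r hr hrπ)
      · omega
    rcases hG with rfl | rfl
    · exact absurd (hbig 2 Nat.prime_two (by omega) h2π (Or.inr rfl)) (by omega)
    haveI : Nontrivial α := Fintype.one_lt_card_iff_nontrivial.mp (by omega)
    have hA := two_mul_nat_card_alternatingGroup (α := α)
    rw [Nat.card_perm, Nat.card_eq_fintype_card (α := α), ← hpdef] at hA
    have hrel : Nat.card H * H.relIndex (alternatingGroup α) = Nat.card (alternatingGroup α) := by
      rw [← Subgroup.relIndex_bot_left, ← Subgroup.relIndex_bot_left]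
      exact Subgroup.relIndex_mul_relIndex ⊥ H _ bot_le hH.1
    have hodd := hH.2.2 2 Nat.prime_two h2π
    have hfact : p.factorial = 2 * (p * d * H.relIndex (alternatingGroup α)) := by
      rw [← hcard, hrel, hA]
    rcases Nat.lt_or_ge p 7 with hlt | hge
    · have hp5 : p = 5 := by
        have : p ≠ 6 := fun e => by omega
        omega
      rw [hp5] at hfact
      replace hd : d ∣ 4 := by rw [← show p - 1 = 4 by omega]; exact hd
      have hd4 := Nat.le_of_dvd (by norm_num) hd
      have h120 : Nat.factorial 5 = 120 := rfl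
      rw [h120] at hfact
      interval_cases d
      · omega
      · omega
      · omega
      · norm_num at hd
      · exact relIndex_ne_three (H := H) (hpdef.symm.trans hp5) (by omega)
    · obtain ⟨k, hk⟩ : ∃ k, p - 1 = d * k := hd
      have h3 : (p - 1) * (p - 3) * (p - 5) ∣ (p - 1).factorial := by
        obtain ⟨m, hm⟩ : ∃ m, p = m + 5 := ⟨p - 5, by omega⟩
        rw [hm]
        simp only [show m + 5 - 1 = m + 3 + 1 by omega, show m + 5 - 3 = m + 1 + 1 by omega,
          show m + 5 - 5 = m by omega, Nat.factorial_succ]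
        rcases m with _ | m
        · omega
        rw [Nat.factorial_succ m]
        exact ⟨(m + 4) * (m + 2) * m.factorial, by ring⟩
      rw [← Nat.mul_factorial_pred hp.ne_zero, show 2 * (p * d * H.relIndex (alternatingGroup α)) =
        p * (2 * (d * H.relIndex (alternatingGroup α))) by ring] at hfact
      rw [Nat.eq_of_mul_eq_mul_left hp.pos hfact] at h3
      obtain ⟨u, hu⟩ : ∃ u, p - 3 = 2 * u := ⟨(p - 3) / 2, by omega⟩
      obtain ⟨v, hv⟩ : ∃ v, p - 5 = 2 * v := ⟨(p - 5) / 2, by omega⟩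
      rw [hk, hu, hv, show d * k * (2 * u) * (2 * v) = 2 * (d * (2 * (k * u * v))) by ring] at h3
      have hdpos : 0 < d := Nat.pos_of_ne_zero fun e => by rw [e, zero_mul] at hk; omega
      exact hodd ((dvd_mul_right 2 _).trans ((Nat.mul_dvd_mul_iff_left hdpos).mp ((Nat.mul_dvd_mul_iff_left two_pos).mp h3)))
  · have heven := normalizer_even rfl hprim hsol (fun q hq hd hq1 => by
      obtain ⟨hqπ, hle⟩ := hHdvd q hq hd
      rcases hpr q hq hqπ hle with e | e | e
      · exact e
      · exfalso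
        rw [show p - 1 = q + 1 by omega] at hq1
        exact hq.ne_one (Nat.dvd_one.mp ((Nat.dvd_add_right dvd_rfl).mp hq1))
      · exfalso
        have := Nat.le_of_dvd (by omega) hq1; omega) P
    have h3 := S0676.result rfl H hsol P heven
    have hdiv := desc_dvd_of_three_transitive h3 (by omega)
    rw [← hpdef] at hdiv
    have h2H : 2 ∣ Nat.card H := heven.two_dvd.trans (Subgroup.card_subgroup_dvd_card _)
    obtain ⟨h2π, -⟩ := hHdvd 2 Nat.prime_two h2H
    have hfac : ∀ q : ℕ, q.Prime → q ∣ p - 2 → q + 2 = p ∧ q ∈ π := fun q hq hd => by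
      obtain ⟨hqπ, hle⟩ := hHdvd q hq ((hd.trans (dvd_mul_left (p - 2) (p * (p - 1)))).trans hdiv)
      have := Nat.le_of_dvd (by omega) hd
      refine ⟨?_, hqπ⟩
      rcases hpr q hq hqπ hle with e | e | e
      · subst e; omega
      · exact e
      · omega
    obtain ⟨q, hq, hqd⟩ := Nat.exists_prime_and_dvd (by omega : p - 2 ≠ 1)
    obtain ⟨hqe, hqπ⟩ := hfac q hq hqd
    have h3dvd : 3 ∣ p - 2 ∨ 3 ∣ p - 1 ∨ 3 ∣ p := by
      rcases (show p % 3 = 0 ∨ p % 3 = 1 ∨ p % 3 = 2 by omega) with e | e | e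
      · exact Or.inr (Or.inr (Nat.dvd_of_mod_eq_zero e))
      · exact Or.inr (Or.inl (Nat.dvd_of_mod_eq_zero (by omega)))
      · exact Or.inl (Nat.dvd_of_mod_eq_zero (by omega))
    rcases h3dvd with h | h | h
    · obtain ⟨e, h3π⟩ := hfac 3 Nat.prime_three h
      refine hf fun t ht htn => ?_
      have := ht.two_le
      have : t ≠ 4 := fun e => by subst e; norm_num at ht
      obtain rfl | rfl | rfl : t = 2 ∨ t = 3 ∨ t = 5 := by omega
      · exact h2π
      · exact h3π
      · have : p = 5 := by omega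
        exact this ▸ (hHdvd p hp (prime_dvd_card rfl H)).1
    · obtain ⟨h3π, h3le⟩ := hHdvd 3 Nat.prime_three ((h.trans ((dvd_mul_left (p - 1) p).trans (dvd_mul_right _ (p - 2)))).trans hdiv)
      rcases hpr 3 Nat.prime_three h3π h3le with e | e | e <;> omega
    · have := (Nat.prime_dvd_prime_iff_eq Nat.prime_three hp).mp h
      omega

/-- Degree a power of two. -/
theorem not_hall_even_degree (hH : Cfsg.IsPiHallOf π H (alternatingGroup α)) (hprim : IsPreprimitive H α)
    (h2 : 2 ∈ π) {a : ℕ} (ha : 3 ≤ a) (hn : Fintype.card α = 2 ^ a) {s : ℕ} (hs : s.Prime) (hsπ : s ∈ π)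
    (hsn : s + 1 = Fintype.card α)
    (hpr : ∀ q : ℕ, q.Prime → q ∈ π → q ≤ Fintype.card α → q = 2 ∨ q = s) : False := by
  classical
  haveI := Fact.mk hs
  haveI : IsPretransitive H α := hprim.toIsPretransitive
  set n := Fintype.card α with hndef
  have hn8 : 8 ≤ n := by
    rw [hn]; calc 8 = 2 ^ 3 := rfl
      _ ≤ 2 ^ a := Nat.pow_le_pow_right two_pos ha
  have hs2 : s ≠ 2 := by omega
  obtain ⟨g, hg, hgc, hgs⟩ := exists_cycle (H := H) hs (by omega)
    (not_dvd_index (Or.inr rfl) hH hs hsπ (Or.inl hs2))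
  obtain ⟨x, hx⟩ : ∃ x, g.supportᶜ = {x} := Finset.card_eq_one.mp (by rw [Finset.card_compl, hgs]; omega)
  have hfx : ∀ z, g z = z ↔ z = x := fun z => by
    rw [← Perm.notMem_support, ← Finset.mem_compl, hx, Finset.mem_singleton]
  have hgord : orderOf g = s := by rw [hgc.orderOf, hgs]
  set g' : H := ⟨g, hg⟩ with hg'
  have hg'ord : orderOf g' = s := by rw [← Subgroup.orderOf_coe]; exact hgord
  have hnsq : ¬ s ^ 2 ∣ Nat.card H := fun h => by
    have h1 := h.trans (Subgroup.card_subgroup_dvd_card H)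
    rw [Nat.card_perm, Nat.card_eq_fintype_card, ← hndef, ← hsn, Nat.factorial_succ,
      ← Nat.mul_factorial_pred hs.ne_zero, pow_two, show (s + 1) * (s * (s - 1).factorial) = s * ((s + 1) * (s - 1).factorial) by ring] at h1
    rcases hs.dvd_mul.mp ((Nat.mul_dvd_mul_iff_left hs.pos).mp h1) with h2 | h2
    · exact hs.ne_one (Nat.dvd_one.mp ((Nat.dvd_add_right dvd_rfl).mp h2))
    · rw [hs.dvd_factorial] at h2; omega
  have hfac : (Nat.card H).factorization s = 1 := by
    have h1 : s ∣ Nat.card H := hg'ord ▸ orderOf_dvd_natCard g'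
    have h2 := (hs.dvd_iff_one_le_factorization Nat.card_pos.ne').mp h1
    by_contra h3
    exact hnsq ((hs.pow_dvd_iff_le_factorization Nat.card_pos.ne').mpr (by omega))
  let P : Sylow s H := Sylow.ofCard (Subgroup.zpowers g') (by rw [Nat.card_zpowers, hg'ord, hfac, pow_one])
  have hgen : ∀ y, y ≠ x → ∀ z, z ≠ x → ∃ i : ℤ, (g ^ i) y = z := fun y hy z hz =>
    hgc.sameCycle (fun e => hy ((hfx y).mp e)) (fun e => hz ((hfx z).mp e))
  have hxfix : ∀ i : ℤ, (g ^ i) x = x := fun i => Equiv.Perm.zpow_apply_eq_self_of_apply_eq_self ((hfx x).mpr rfl) i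
  have hfixall : ∀ i : ℤ, ∀ y, y ≠ x → (g ^ i) y = y → g ^ i = 1 := fun i y hy he => by
    ext z
    rcases eq_or_ne z x with rfl | hz
    · rw [hxfix, Perm.one_apply]
    · obtain ⟨j, rfl⟩ := hgen y hy z hz
      rw [← Perm.mul_apply, zpow_mul_comm, Perm.mul_apply, he, Perm.one_apply]
  have hnx : ∀ h ∈ Subgroup.normalizer ((P : Subgroup H) : Set H), h.1 x = x := fun h hh => by
    obtain ⟨i, hi⟩ := (Subgroup.mem_normalizer_iff.mp hh g').mp (Subgroup.mem_zpowers g')
    have e : (g ^ i : Perm α) (h.1 x) = h.1 x := by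
      have e1 : g ^ i = h.1 * g * h.1⁻¹ := congrArg Subtype.val hi
      rw [e1, Perm.mul_apply, Perm.mul_apply, show (h.1⁻¹ : Perm α) (h.1 x) = x by simp, (hfx x).mpr rfl]
    by_contra hne
    have h1 := hfixall i _ hne e
    have h2 : h * g' * h⁻¹ = 1 := Subtype.ext ((congrArg Subtype.val hi).symm.trans h1)
    rw [conj_eq_one_iff] at h2
    rw [h2, orderOf_one] at hg'ord
    exact hs.one_lt.ne hg'ord
  have hcen : ∀ h ∈ Subgroup.normalizer ((P : Subgroup H) : Set H), h * g' * h⁻¹ = g' →
      ∃ i : ℤ, h = g' ^ i := fun h hh hc => by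
    obtain ⟨y, hy⟩ : ∃ y, y ≠ x := Fintype.exists_ne_of_one_lt_card (by omega) x
    have hhy : h.1 y ≠ x := fun e => hy (h.1.injective (e.trans (hnx h hh).symm))
    obtain ⟨i, hi⟩ := hgen y hy _ hhy
    refine ⟨i, Subtype.ext (Equiv.ext fun z => ?_)⟩
    rw [Subgroup.coe_zpow]
    rcases eq_or_ne z x with rfl | hz
    · rw [hnx h hh]; exact (hxfix i).symm
    · obtain ⟨j, rfl⟩ := hgen y hy z hz
      have hcom : Commute h.1 g := mul_inv_eq_iff_eq_mul.mp (congrArg Subtype.val hc)
      show h.1 ((g ^ j) y) = (g ^ i) ((g ^ j) y)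
      rw [← Perm.mul_apply, (hcom.zpow_right j).eq, Perm.mul_apply, ← hi, ← Perm.mul_apply, zpow_mul_comm,
        Perm.mul_apply]
  -- the normaliser centralises
  have hle : Subgroup.normalizer ((P : Subgroup H) : Set H) ≤ Subgroup.centralizer ((P : Subgroup H) : Set H) := by
    intro h hh
    have hconjN : ∀ u ∈ Subgroup.normalizer ((P : Subgroup H) : Set H), ∃ k : ℤ, g' ^ k = u * g' * u⁻¹ := fun u hu =>
      (Subgroup.mem_normalizer_iff.mp hu g').mp (Subgroup.mem_zpowers g')
    suffices hc : h * g' * h⁻¹ = g' by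
      refine Subgroup.mem_centralizer_iff.mpr fun v hv => ?_
      obtain ⟨k, rfl⟩ := Subgroup.mem_zpowers_iff.mp hv
      exact (show Commute g' h from (mul_inv_eq_iff_eq_mul.mp hc).symm).zpow_left k
    obtain ⟨k, hk⟩ := hconjN h hh
    by_contra hne
    -- the exponent has multiplicative order two
    have hpow : ∀ m : ℕ, h ^ m * g' * (h ^ m)⁻¹ = g' ^ (k ^ m) := fun m => by
      induction m with
      | zero => simp
      | succ m ih =>
        rw [pow_succ' h, mul_inv_rev, show h * h ^ m * g' * ((h ^ m)⁻¹ * h⁻¹) = h * (h ^ m * g' * (h ^ m)⁻¹) * h⁻¹ by group,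
          ih, ← conj_zpow, ← hk, ← zpow_mul, ← pow_succ']
    have hkmod : ∀ m : ℕ, h ^ m * g' * (h ^ m)⁻¹ = g' ↔ ((k : ZMod s)) ^ m = 1 := fun m => by
      rw [hpow]
      nth_rewrite 2 [← zpow_one g']
      rw [zpow_eq_zpow_iff_modEq, hg'ord, ← ZMod.intCast_eq_intCast_iff, Int.cast_pow, Int.cast_one]
    have hk0 : (k : ZMod s) ≠ 0 := fun e => by
      have h1 := hpow (orderOf h)
      rw [pow_orderOf_eq_one] at h1
      have h2 : ((k : ZMod s)) ^ orderOf h = 1 := (hkmod _).mp (by rw [pow_orderOf_eq_one]; group)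
      rw [e, zero_pow (orderOf_pos h).ne'] at h2
      exact zero_ne_one h2
    have hd1 : orderOf (k : ZMod s) ∣ s - 1 := orderOf_dvd_of_pow_eq_one (ZMod.pow_card_sub_one_eq_one hk0)
    have hd2 : orderOf (k : ZMod s) ∣ Nat.card H :=
      (orderOf_dvd_of_pow_eq_one ((hkmod _).mp (by rw [pow_orderOf_eq_one]; group))).trans (orderOf_dvd_natCard h)
    have hd3 : orderOf (k : ZMod s) ∣ 2 := by
      refine dvd_of_prime_pow fun q i hq hi hd => ?_
      have hq2 : q = 2 := by
        obtain ⟨hqπ, hqle⟩ : q ∈ π ∧ q ≤ n := ⟨hH.2.1 q hq ((dvd_pow_self q hi.ne').trans (hd.trans hd2)),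
          (prime_dvd_card_perm hq).mp (((dvd_pow_self q hi.ne').trans (hd.trans hd2)).trans (Subgroup.card_subgroup_dvd_card H))⟩
        rcases hpr q hq hqπ hqle with e | e
        · exact e
        · have := Nat.le_of_dvd (by omega) ((dvd_pow_self q hi.ne').trans (hd.trans hd1)); omega
      subst hq2
      rcases i with _ | _ | i
      · simp
      · simp
      · exfalso
        have h4 : 4 ∣ s - 1 := (Dvd.intro_left (2 ^ i) (by rw [pow_succ, pow_succ]; ring) : 4 ∣ 2 ^ (i + 1 + 1)).trans (hd.trans hd1)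
        have h4n : 4 ∣ n := by rw [hn]; exact (pow_dvd_pow 2 (by omega : 2 ≤ a))
        omega
    have hk2 : (k : ZMod s) ^ 2 = 1 := orderOf_dvd_iff_pow_eq_one.mp hd3
    have hk1 : (k : ZMod s) ≠ 1 := fun e => hne (by
      have := (hkmod 1).mpr (by rw [pow_one, e])
      rwa [pow_one] at this)
    have hkm1 : (k : ZMod s) = -1 := ((mul_self_eq_one_iff).mp (by rwa [← pow_two])).resolve_left hk1
    obtain ⟨i, hi⟩ := hcen (h ^ 2) (Subgroup.pow_mem _ hh 2) ((hkmod 2).mpr hk2)
    set u := h ^ s with hu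
    have huN : u ∈ Subgroup.normalizer ((P : Subgroup H) : Set H) := Subgroup.pow_mem _ hh s
    have husq : u * u = 1 := by
      rw [hu, ← pow_two, ← pow_mul, mul_comm, pow_mul, hi, ← zpow_natCast, ← zpow_mul, mul_comm, zpow_mul,
        zpow_natCast, ← hg'ord, pow_orderOf_eq_one, one_zpow]
    have hug : u * g' * u⁻¹ = g' ^ (-1 : ℤ) := by
      rw [hu, hpow, zpow_eq_zpow_iff_modEq, hg'ord, ← ZMod.intCast_eq_intCast_iff, Int.cast_pow, hkm1,
        ZMod.pow_card, Int.cast_neg, Int.cast_one]
    have hinvol : ∀ z, u.1 (u.1 z) = z := fun z => by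
      rw [← Perm.mul_apply, ← Subgroup.coe_mul, husq]; rfl
    have hu1 : u.1 ≠ 1 := fun e => hne (by
      have hh1 : u = 1 := Subtype.ext e
      rw [hh1, one_mul, inv_one, mul_one] at hug
      exfalso
      have h5 : g' ^ (2 : ℤ) = 1 := by
        rw [zpow_two]; nth_rewrite 2 [hug]; rw [zpow_neg_one, mul_inv_cancel]
      rw [← orderOf_dvd_iff_zpow_eq_one, hg'ord] at h5
      have : s ∣ 2 := by exact_mod_cast h5
      exact hs2 ((Nat.prime_dvd_prime_iff_eq hs Nat.prime_two).mp this))
    have huniq : ∀ y z, y ≠ x → z ≠ x → u.1 y = y → u.1 z = z → y = z := fun y z hy hz huy huz => by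
      obtain ⟨j, rfl⟩ := hgen y hy z hz
      have e1 : u.1 * g ^ j * u.1⁻¹ = g ^ (-j) := by
        have := congrArg Subtype.val hug
        simp only [Subgroup.coe_mul, Subgroup.coe_inv, Subgroup.coe_zpow] at this
        rw [← conj_zpow, this, ← zpow_mul, neg_one_mul]
      have e2 : (g ^ (-j)) y = (g ^ j) y := by
        rw [← e1, Perm.mul_apply, Perm.mul_apply, show (u.1⁻¹ : Perm α) y = y from Perm.inv_eq_iff_eq.mpr huy.symm, huz]
      have e3 : (g ^ (2 * j)) y = y := by
        rw [two_mul, zpow_add, Perm.mul_apply, ← e2, ← Perm.mul_apply, ← zpow_add, add_neg_cancel, zpow_zero, Perm.one_apply]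
      have e4 := orderOf_dvd_iff_zpow_eq_one.mpr (hfixall _ y hy e3)
      rw [hgord] at e4
      have : (s : ℤ) ∣ j := by
        refine ((Nat.prime_iff_prime_int.mp hs).dvd_mul.mp e4).resolve_left fun h2 => ?_
        have : s ∣ 2 := by exact_mod_cast h2
        exact hs2 ((Nat.prime_dvd_prime_iff_eq hs Nat.prime_two).mp this)
      rw [orderOf_dvd_iff_zpow_eq_one.mp (hgord.symm ▸ this : ((orderOf g : ℕ) : ℤ) ∣ j), Perm.one_apply]
    have hord2 : orderOf u.1 = 2 := orderOf_eq_prime (by rw [pow_two, ← Subgroup.coe_mul, husq]; rfl) hu1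
    obtain ⟨j, hj⟩ := Perm.cycleType_prime_order (hord2 ▸ Nat.prime_two)
    have hsum := Perm.sum_cycleType u.1
    rw [hj, hord2, Multiset.sum_replicate, smul_eq_mul] at hsum
    have hsign : Perm.sign u.1 = 1 := Perm.mem_alternatingGroup.mp (hH.1 u.2)
    rw [Perm.sign_of_cycleType, hj, hord2, Multiset.sum_replicate, Multiset.card_replicate, smul_eq_mul,
      neg_one_pow_eq_one_iff_even (by decide)] at hsign
    have hcompl : u.1.supportᶜ.card ≤ 2 := by
      by_contra hgt
      obtain ⟨y, hy, z, hz, hyz⟩ := Finset.one_lt_card.mp (show 1 < (u.1.supportᶜ.erase x).card by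
        rw [Finset.card_erase_of_mem (by rw [Finset.mem_compl, Perm.notMem_support]; exact hnx u huN)]; omega)
      rw [Finset.mem_erase, Finset.mem_compl, Perm.notMem_support] at hy hz
      exact hyz (huniq y z hy.1 hz.1 hy.2 hz.2)
    have hcpos : 0 < u.1.supportᶜ.card := Finset.card_pos.mpr ⟨x, by
      rw [Finset.mem_compl, Perm.notMem_support]; exact hnx u huN⟩
    rw [Finset.card_compl, ← hndef] at hcompl hcpos
    obtain ⟨e, he⟩ := hsign
    have : 4 ∣ n := by rw [hn]; exact pow_dvd_pow 2 (by omega : 2 ≤ a)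
    omega
  -- so there is a normal complement
  set K := (MonoidHom.transferSylow P hle).ker with hK
  have hcompK := MonoidHom.ker_transferSylow_isComplement' P hle
  have hKs : ¬ s ∣ Nat.card K := MonoidHom.not_dvd_card_ker_transferSylow P hle
  have hbound : 2 ^ (a + 2) ∣ Nat.card K := by
    haveI : Nontrivial α := Fintype.one_lt_card_iff_nontrivial.mp (by omega)
    have hA := two_mul_nat_card_alternatingGroup (α := α)
    rw [Nat.card_perm, Nat.card_eq_fintype_card (α := α), ← hndef] at hA
    have h1 : 2 ^ (a + 3) ∣ n.factorial := by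
      rw [show n.factorial = n * (n - 1).factorial from (Nat.mul_factorial_pred (by omega)).symm, pow_add, hn]
      refine Nat.mul_dvd_mul_left _ ?_
      have : Nat.factorial 4 ∣ (2 ^ a - 1).factorial := Nat.factorial_dvd_factorial (by omega)
      exact (show 2 ^ 3 ∣ Nat.factorial 4 from ⟨3, rfl⟩).trans this
    rw [← hA, pow_succ', Nat.mul_dvd_mul_iff_left two_pos,
      show Nat.card (alternatingGroup α) = Nat.card H * H.relIndex (alternatingGroup α) by
        rw [← Subgroup.relIndex_bot_left, ← Subgroup.relIndex_bot_left]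
        exact (Subgroup.relIndex_mul_relIndex ⊥ H _ bot_le hH.1).symm, ← hcompK.card_mul] at h1
    have hPc : Nat.card (P : Subgroup H) = s := by
      show Nat.card (Subgroup.zpowers g') = s
      rw [Nat.card_zpowers, hg'ord]
    rw [hPc] at h1
    have hc1 : Nat.Coprime (2 ^ (a + 2)) (H.relIndex (alternatingGroup α)) :=
      ((Nat.Prime.coprime_iff_not_dvd Nat.prime_two).mpr (hH.2.2 2 Nat.prime_two h2)).pow_left _
    have hc2 : Nat.Coprime (2 ^ (a + 2)) s :=
      ((Nat.coprime_primes Nat.prime_two hs).mpr (Ne.symm hs2)).pow_left _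
    exact hc2.dvd_of_dvd_mul_right (hc1.dvd_of_dvd_mul_right h1)
  have hK2 : IsPGroup 2 K := by
    obtain ⟨m, hm⟩ : ∃ m, Nat.card K = 2 ^ m := ⟨_, Nat.eq_prime_pow_of_unique_prime_dvd Nat.card_pos.ne' fun {q} hq hd => by
      have hdH := hd.trans (Subgroup.card_subgroup_dvd_card K)
      rcases hpr q hq (hH.2.1 q hq hdH) ((prime_dvd_card_perm hq).mp (hdH.trans (Subgroup.card_subgroup_dvd_card H))) with e | e
      · exact e
      · exact absurd (e ▸ hd) hKs⟩
    exact IsPGroup.of_card hm
  haveI := hprim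
  have hKne : K ≠ ⊥ := fun e => by
    rw [e, Subgroup.card_bot, Nat.dvd_one, Nat.pow_eq_one] at hbound
    omega
  haveI : IsPretransitive K α := normal_transitive K hKne
  haveI : Fact (Nat.Prime 2) := ⟨Nat.prime_two⟩
  -- the point stabiliser in the complement fixes everything
  have hbot : stabilizer K x = ⊥ := by
    have h2' : IsPGroup 2 (stabilizer K x) := hK2.to_subgroup _
    have hmodn := h2'.card_modEq_card_fixedPoints α
    obtain ⟨y, hy, hyx⟩ : ∃ y ∈ MulAction.fixedPoints (stabilizer K x) α, y ≠ x := by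
      have hxf : x ∈ MulAction.fixedPoints (stabilizer K x) α := fun u => u.2
      by_contra! hall
      have : MulAction.fixedPoints (stabilizer K x) α = {x} :=
        Set.eq_singleton_iff_unique_mem.mpr ⟨hxf, hall⟩
      rw [this, Nat.card_eq_fintype_card (α := α), ← hndef] at hmodn
      have h1 : Nat.card ({x} : Set α) = 1 := by simp
      rw [h1, hn, Nat.ModEq, Nat.mod_eq_zero_of_dvd (dvd_pow_self 2 (by omega : a ≠ 0))] at hmodn
      omega
    rw [Subgroup.eq_bot_iff_forall]
    intro v hv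
    refine Subtype.ext (perm_ext fun z => ?_)
    show (v.1 : H).1 z = ((1 : H) : Perm α) z
    rw [OneMemClass.coe_one, Perm.one_apply]
    rcases eq_or_ne z x with rfl | hz
    · exact hv
    · obtain ⟨j, rfl⟩ := hgen y hyx z hz
      have hKn : (g' ^ j)⁻¹ * v.1 * g' ^ j ∈ K := by
        have := (inferInstance : K.Normal).conj_mem v.1 v.2 (g' ^ j)⁻¹
        rwa [inv_inv] at this
      have hmem : (⟨_, hKn⟩ : K) ∈ stabilizer K x := by
        show ((g' ^ j)⁻¹ * v.1 * g' ^ j : H).1 x = x
        rw [Subgroup.coe_mul, Subgroup.coe_mul, Subgroup.coe_inv, Subgroup.coe_zpow, Perm.mul_apply,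
          Perm.mul_apply, hxfix, show v.1.1 x = x from hv]
        exact Perm.inv_eq_iff_eq.mpr (hxfix j).symm
      have h3 : ((g' ^ j)⁻¹ * v.1 * g' ^ j : H).1 y = y := hy ⟨_, hmem⟩
      rw [Subgroup.coe_mul, Subgroup.coe_mul, Subgroup.coe_inv, Subgroup.coe_zpow, Perm.mul_apply,
        Perm.mul_apply, Perm.inv_eq_iff_eq] at h3
      exact h3
  have hKn : Nat.card K = n := by
    rw [← card_mul_card_stabilizer (G := K) x, hbot, Subgroup.card_bot, mul_one, Nat.card_eq_fintype_card]
  have := Nat.le_of_dvd (by omega) (hKn ▸ hbound)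
  rw [hn, pow_add] at this
  have : 0 < 2 ^ a := pow_pos two_pos a
  omega

/-- A Hall subgroup for a proper set of at least two primes is not primitive. -/
theorem not_primitive (hG : Ambient G) (hH : Cfsg.IsPiHallOf π H G) (ht : ¬ TrivialPi π (Fintype.card α))
    (hf : ¬ FullPi π (Fintype.card α)) : ¬ IsPreprimitive H α := by
  intro hprim
  classical
  haveI : IsPretransitive H α := hprim.toIsPretransitive
  have h5 := five_le ht hf
  set n := Fintype.card α with hndef
  have hbig : ∀ r : ℕ, r.Prime → r ≤ n → r ∈ π → (r ≠ 2 ∨ G = ⊤) → n ≤ r + 2 := by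
    intro r hr hrn hrπ h2
    by_contra hlt
    obtain ⟨g, hg, hgc, hgs⟩ := exists_cycle (H := H) hr hrn (not_dvd_index hG hH hr hrπ h2)
    have hA := alternating_le_of_prime_cycle hprim hr (by omega) hgc hgs hg
    refine hf fun q hq hqn => hH.2.1 q hq (dvd_trans ?_ (Subgroup.card_dvd_of_le hA))
    haveI : Nontrivial α := Fintype.one_lt_card_iff_nontrivial.mp (by omega)
    have hc := two_mul_nat_card_alternatingGroup (α := α)
    rw [Nat.card_perm, Nat.card_eq_fintype_card (α := α), ← hndef] at hc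
    rcases eq_or_ne q 2 with rfl | hq2
    · have h4 : 4 ∣ n.factorial := (show 4 ∣ Nat.factorial 4 from ⟨6, rfl⟩).trans (Nat.factorial_dvd_factorial (by omega))
      omega
    · have hdv : q ∣ 2 * Nat.card (alternatingGroup α) := hc ▸ (hq.dvd_factorial).mpr hqn
      exact ((Nat.coprime_primes hq Nat.prime_two).mpr hq2).dvd_of_dvd_mul_left hdv
  obtain ⟨r, s, hr, hs, hrs, hsn, hrπ, hsπ⟩ := exists_two ht
  have hs2 : s ≠ 2 := by have := hr.two_le; omega
  obtain ⟨x⟩ : Nonempty α := Fintype.card_pos_iff.mp (by omega)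
  have hnπ : ∀ q : ℕ, q.Prime → q ∣ n → q ∈ π := fun q hq hd => hH.2.1 q hq (hd.trans (card_dvd_of_transitive x))
  by_cases hp : n.Prime
  · exact not_hall_prime_degree hG hH ht hf hprim hbig hp
  have honly : ∀ q : ℕ, q.Prime → q ∣ n → q = 2 := fun q hq hd => by
    by_contra hq2
    have := hbig q hq (Nat.le_of_dvd (by omega) hd) (hnπ q hq hd) (Or.inl hq2)
    have := prime_dvd_le_half hq hd hp (by omega)
    omega
  obtain ⟨a, ha⟩ : ∃ a, n = 2 ^ a := ⟨_, Nat.eq_prime_pow_of_unique_prime_dvd (by omega) fun {q} hq hd => honly q hq hd⟩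
  obtain ⟨q, hq, hqd⟩ := Nat.exists_prime_and_dvd (by omega : n ≠ 1)
  have h2π : 2 ∈ π := honly q hq hqd ▸ hnπ q hq hqd
  rcases hG with rfl | rfl
  · have := hbig 2 Nat.prime_two (by omega) h2π (Or.inr rfl); omega
  have hev : n % 2 = 0 := Nat.mod_eq_zero_of_dvd (honly q hq hqd ▸ hqd)
  have hkey : ∀ t : ℕ, t.Prime → t ∈ π → t ≤ n → t = 2 ∨ t + 1 = n := fun t ht htπ htn => by
    by_cases h2 : t = 2
    · exact Or.inl h2
    · have := hbig t ht htn htπ (Or.inl h2)
      have : t % 2 = 1 := by rcases ht.eq_two_or_odd with e | e <;> omega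
      omega
  have hs1 : s + 1 = n := (hkey s hs hsπ hsn).resolve_left hs2
  refine not_hall_even_degree hH hprim h2π (a := a) ?_ ha hs hsπ hs1 fun t ht htπ htn => ?_
  · by_contra hlt
    have : 2 ^ a ≤ 2 ^ 2 := Nat.pow_le_pow_right two_pos (by omega)
    omega
  · rcases hkey t ht htπ htn with e | e
    · exact Or.inl e
    · exact Or.inr (by omega)

end Cfsg.Agent.PermGp.HallSym
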