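import Cfsg.Agent.Lib.PermGp.HallSym.Models
import Cfsg.Agent.Lib.PermGp.HallSym.Generic

/-!
# Hall properties of symmetric and alternating groups
-/

set_option autoImplicit false

namespace Cfsg.Agent.PermGp.HallSym

open Equiv MulAction

variable {α : Type*} [Fintype α] [DecidableEq α] {π : Set ℕ}

local notation "A" => alternatingGroup α

theorem hall_perm_eq {H : Subgroup (Perm α)} (hH : Cfsg.IsPiHall π H) (ht : ¬ TrivialPi π (Fintype.card α))
    (hf : ¬ FullPi π (Fintype.card α)) : ∃ W, IsModel π W ∧ H = W := by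
  obtain ⟨W, hW, hle⟩ := classify (Or.inl rfl) (hallOf_top_iff.mpr hH) ht hf
  exact ⟨W, hW, (hall_eq_inf (hallOf_top_iff.mpr hH) hle hW.isPiHall.1).trans (inf_top_eq W)⟩

theorem hall_alt_eq {M : Subgroup A} (hM : Cfsg.IsPiHall π M) (ht : ¬ TrivialPi π (Fintype.card α))
    (hf : ¬ FullPi π (Fintype.card α)) : ∃ W, IsModel π W ∧ M.map (Subgroup.subtype A) = W ⊓ A := by
  obtain ⟨W, hW, hle⟩ := classify (Or.inr rfl) (hallOf_map_iff.mpr hM) ht hf
  exact ⟨W, hW, hall_eq_inf (hallOf_map_iff.mpr hM) hle hW.isPiHall.1⟩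

theorem map_subtype_eq_iff {M : Subgroup A} {W : Subgroup (Perm α)} :
    M.map (Subgroup.subtype A) = W ⊓ A ↔ M = W.subgroupOf A := by
  constructor
  · intro h
    rw [← Subgroup.comap_map_eq_self_of_injective (Subgroup.subtype_injective A) M, h]
    exact Subgroup.inf_subgroupOf_right W A
  · rintro rfl
    exact Subgroup.subgroupOf_map_subtype W A

theorem dvd_card_alt {q : ℕ} (hq : q.Prime) (h : q ∣ Nat.card A) : q ≤ Fintype.card α :=
  (prime_dvd_card_perm hq).mp (h.trans (Subgroup.card_subgroup_dvd_card A))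

/-- Hall subgroups of the alternating group are traces of Hall subgroups of the symmetric group. -/
theorem hall_alt_iff {M : Subgroup A} :
    Cfsg.IsPiHall π M ↔ ∃ M₀ : Subgroup (Perm α), Cfsg.IsPiHall π M₀ ∧ M = M₀.subgroupOf A := by
  classical
  haveI : (A : Subgroup (Perm α)).Normal := Perm.sign.normal_ker
  constructor
  · intro hM
    by_cases hf : FullPi π (Fintype.card α)
    · refine ⟨⊤, ⟨fun q hq hd => hf q hq ((prime_dvd_card_perm hq).mp (Subgroup.card_top (G := Perm α) ▸ hd)),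
        fun q hq _ hd => hq.ne_one (Nat.dvd_one.mp (Subgroup.index_top (G := Perm α) ▸ hd))⟩, ?_⟩
      rw [Subgroup.top_subgroupOf, ← Subgroup.index_eq_one]
      by_contra hne
      obtain ⟨q, hq, hd⟩ := Nat.exists_prime_and_dvd hne
      exact hM.2 q hq (hf q hq (dvd_card_alt hq (hd.trans (Subgroup.index_dvd_card _)))) hd
    have hrel : ∀ q : ℕ, q.Prime → q ≠ 2 → q ∈ π → ¬ q ∣ (M.map (Subgroup.subtype A)).index := fun q hq h2 hqπ =>
      not_dvd_index (Or.inr rfl) (hallOf_map_iff.mpr hM) hq hqπ (Or.inl h2)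
    by_cases h2 : 2 ∈ π
    · by_cases ht : TrivialPi π (Fintype.card α)
      · -- a Sylow two-subgroup
        have honly : ∀ q : ℕ, q.Prime → q ∈ π → q ≤ Fintype.card α → q = 2 := fun q hq hqπ hle =>
          ht q 2 hq Nat.prime_two hle (by have := hq.two_le; omega) hqπ h2
        haveI : Fact (Nat.Prime 2) := ⟨Nat.prime_two⟩
        set M' := M.map (Subgroup.subtype A) with hM'
        have hM'card : ∀ q : ℕ, q.Prime → q ∣ Nat.card M' → q = 2 := fun q hq hd =>
          honly q hq ((hallOf_map_iff.mpr hM).2.1 q hq hd)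
            ((prime_dvd_card_perm hq).mp (hd.trans (Subgroup.card_subgroup_dvd_card M')))
        obtain ⟨P, hP⟩ := (IsPGroup.of_card (p := 2) (G := M')
          (Nat.eq_prime_pow_of_unique_prime_dvd Nat.card_pos.ne' fun {q} hq hd => hM'card q hq hd)).exists_le_sylow
        refine ⟨P, ⟨fun q hq hd => ?_, fun q hq hqπ hd => ?_⟩, map_subtype_eq_iff.mp (hall_eq_inf (hallOf_map_iff.mpr hM) hP ?_)⟩
        · rw [P.card_eq_multiplicity] at hd
          exact (Nat.prime_dvd_prime_iff_eq hq Nat.prime_two).mp (hq.dvd_of_dvd_pow hd) ▸ h2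
        · obtain rfl := honly q hq hqπ ((prime_dvd_card_perm hq).mp (hd.trans (Subgroup.index_dvd_card _)))
          exact P.not_dvd_index hd
        · intro q hq hd
          rw [P.card_eq_multiplicity] at hd
          exact (Nat.prime_dvd_prime_iff_eq hq Nat.prime_two).mp (hq.dvd_of_dvd_pow hd) ▸ h2
      · obtain ⟨W, hW, he⟩ := hall_alt_eq hM ht hf
        exact ⟨W, hW.isPiHall, map_subtype_eq_iff.mp he⟩
    · refine ⟨M.map (Subgroup.subtype A), ⟨(hallOf_map_iff.mpr hM).2.1, fun q hq hqπ hd => ?_⟩, ?_⟩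
      · exact hrel q hq (fun e => h2 (e ▸ hqπ)) hqπ hd
      · exact (Subgroup.comap_map_eq_self_of_injective (Subgroup.subtype_injective A) M).symm
  · rintro ⟨M₀, hM₀, rfl⟩
    rw [← hallOf_map_iff, Subgroup.subgroupOf_map_subtype]
    exact hall_inter_normal hM₀

theorem epi_alt_iff : Cfsg.IsEPiGroup π (Perm α) ↔ Cfsg.IsEPiGroup π A :=
  ⟨fun ⟨H, hH⟩ => ⟨_, hall_alt_iff.mpr ⟨H, hH, rfl⟩⟩, fun ⟨_, hM⟩ =>
    let ⟨M₀, h, _⟩ := hall_alt_iff.mp hM; ⟨M₀, h⟩⟩

theorem cpi_perm (h : Cfsg.IsEPiGroup π (Perm α)) : Cfsg.IsCPiGroup π (Perm α) := by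
  by_cases ht : TrivialPi π (Fintype.card α)
  · exact (few_primes fun r s hr hs hrπ hsπ hrd hsd =>
      ht r s hr hs ((prime_dvd_card_perm hr).mp hrd) ((prime_dvd_card_perm hs).mp hsd) hrπ hsπ).2
  by_cases hf : FullPi π (Fintype.card α)
  · exact (all_primes fun r hr hrd => hf r hr ((prime_dvd_card_perm hr).mp hrd)).2
  refine ⟨h, fun H K hH hK => ?_⟩
  obtain ⟨W, hW, rfl⟩ := hall_perm_eq hH ht hf
  obtain ⟨W', hW', rfl⟩ := hall_perm_eq hK ht hf
  exact hW.conj hW'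

theorem cpi_alt (h : Cfsg.IsEPiGroup π A) : Cfsg.IsCPiGroup π A := by
  classical
  by_cases ht : TrivialPi π (Fintype.card α)
  · exact (few_primes fun r s hr hs hrπ hsπ hrd hsd =>
      ht r s hr hs (dvd_card_alt hr hrd) (dvd_card_alt hs hsd) hrπ hsπ).2
  by_cases hf : FullPi π (Fintype.card α)
  · exact (all_primes fun r hr hrd => hf r hr (dvd_card_alt hr hrd)).2
  refine ⟨h, fun H K hH hK => ?_⟩
  obtain ⟨W, hW, he⟩ := hall_alt_eq hH ht hf
  obtain ⟨W', hW', he'⟩ := hall_alt_eq hK ht hf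
  obtain ⟨σ, rfl⟩ := hW.conj hW'
  -- make the conjugating element even
  obtain ⟨τ, hτA, hτ⟩ : ∃ τ ∈ A, W.map (MulAut.conj σ).toMonoidHom = W.map (MulAut.conj τ).toMonoidHom := by
    rcases Int.units_eq_one_or (Perm.sign σ) with e | e
    · exact ⟨σ, Perm.mem_alternatingGroup.mpr e, rfl⟩
    · obtain ⟨w, hw, hws⟩ := hW.exists_odd (by have := five_le ht hf; omega)
      refine ⟨σ * w, Perm.mem_alternatingGroup.mpr (by rw [map_mul, e, hws]; rfl), ?_⟩
      ext x
      constructor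
      · rintro ⟨v, hv, rfl⟩
        exact ⟨w⁻¹ * v * w, W.mul_mem (W.mul_mem (W.inv_mem hw) hv) hw, by simp [mul_assoc]⟩
      · rintro ⟨v, hv, rfl⟩
        exact ⟨w * v * w⁻¹, W.mul_mem (W.mul_mem hw hv) (W.inv_mem hw), by simp [mul_assoc]⟩
  refine ⟨⟨τ, hτA⟩, ?_⟩
  rw [map_subtype_eq_iff] at he he'
  rw [he', he, hτ]
  ext x
  constructor
  · intro hx
    obtain ⟨v, hv, hvx⟩ := Subgroup.mem_subgroupOf.mp hx
    have hvA : v ∈ A := by
      rw [show v = τ⁻¹ * (x : Perm α) * τ by rw [← hvx]; simp [mul_assoc]]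
      exact mul_mem (mul_mem (inv_mem hτA) x.2) hτA
    exact ⟨⟨v, hvA⟩, hv, Subtype.ext hvx⟩
  · rintro ⟨v, hv, rfl⟩
    exact ⟨v.1, hv, rfl⟩

/-- The symmetric groups with nonstandard Hall subgroups. -/
theorem epi_perm_iff (ht : ¬ TrivialPi π (Fintype.card α)) (hf : ¬ FullPi π (Fintype.card α)) :
    Cfsg.IsEPiGroup π (Perm α) ↔ PointPi π (Fintype.card α) ∨ SmallPi π (Fintype.card α) := by
  refine ⟨fun ⟨H, hH⟩ => ?_, fun h => ?_⟩
  · obtain ⟨W, hW, rfl⟩ := hall_perm_eq hH ht hf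
    exact model_shape hW
  · obtain ⟨W, hW⟩ := exists_model h
    exact ⟨W, hW.isPiHall⟩

end Cfsg.Agent.PermGp.HallSym
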